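import Cfsg.Agent.H372.DerU.Fin_m3
import Cfsg.Agent.H997.PF.RowsTop
import Cfsg.Agent.H938.Sax.PEight_mg
import Cfsg.Agent.H580.Der.Ntc_m3
import Cfsg.Agent.AutOrth.Main
import Cfsg.Agent.H547.Der.OctG_m3
import Cfsg.Agent.H686.SqGen
import Mathlib
import Cfsg.Agent.H348.Der.Class
import Cfsg.Agent.H503.El.O8Fin_m3
import Cfsg.Agent.S2607
import Cfsg.Agent.Lib.FinFast
import Cfsg.Agent.H188.Der.GeoO_m3
import Cfsg.Agent.H602.Der.Tools_m3
import Cfsg.Agent.H481.TBound
import Cfsg.Agent.SmallSimple.SylowPrimeCount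
import Cfsg.Agent.S0817
import Cfsg.Agent.H410.Three.Psl2_mg_m3
import Cfsg.Agent.H580.Der.Sp4_m3
import Cfsg.Agent.H547.Der.FourRow_m3
import Cfsg.Agent.FastGrp
import Cfsg.Agent.Prune
set_option linter.all false

section
prune_inst 0x7ffcacfbcbf83ddfffff7e7fa6b8cffc3b901fffe6dff94bffe069ffbbbf23000bc5fb8f09e010fc1ef6e21410b87843fbfeeeffe26fd87ffffd1ff45ffbee1fa5e7bd0051969c340fbc2fffe3f07f8e7f3fffffffffffffffffffffffffffbeffbdffffffff

-- part: H320/Der/FourN_mg
section
prune_inst 0x300001000000000000000000000000000000000000000000000000000000000000000000000000000000000000000000100000000000000000000000000004010000000000000000000000000000000000000000000000000000000000000000200000000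
set_option linter.all false
open scoped Cfsg.Agent.FastGrp

-- part: H320/Der/Even
section
/-!
# `RowS` for `PΩ⁻_{2m}(q)` (with three exceptions) and `PΩ⁺_{2m}(q)`, `m ≥ 5` (helper320, S3502)
-/

set_option autoImplicit false
set_option linter.unusedSectionVars false

namespace Cfsg.Agent.H320.Der

open Cfsg Cfsg.Geo Cfsg.Agent.OrdDiv Cfsg.Agent.H436 Cfsg.Agent.H264.GN Cfsg.Agent.H915.GN
  Cfsg.Agent.H938.Sax Cfsg.Agent.H884.El Cfsg.Agent.LieClassical.OmegaReindex
  Cfsg.Agent.LieClassical.OrthCore Cfsg.Agent.H955 Cfsg.Agent.H439.Der Cfsg.Agent.H377 Cfsg.Agent.H72.AdjOrth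
open Cfsg.Agent.H278.El.Asm (Kn)
open Cfsg.Agent.H997.PF (ominus_main oplus_res SocN no_of_blk exists_rs)
open scoped MatrixGroups

variable {F : Type} [Field F] [Fintype F]

/-- **`PΩ⁻_{2m}(q)`** -/
theorem rowS_ominus_gen (tab : OrderTable.{0}) (hK : Kn) {m : ℕ} (hm : 4 ≤ m) {a b : F}
    (hab : ∀ z₁ z₂ : F, z₁ ^ 2 + a * z₁ * z₂ + b * z₂ ^ 2 = 0 → z₁ = 0 ∧ z₂ = 0)
    (h42 : ¬ (m = 4 ∧ Nat.card F = 2)) (h52 : ¬ (m = 5 ∧ Nat.card F = 2)) (h43 : ¬ (m = 4 ∧ Nat.card F = 3)) :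
    RowS (POmega F (quadFormMinus (m - 1) F a b)) := by
  have hfin : Finite (POmega F (quadFormMinus (m - 1) F a b)) := Quotient.finite _
  exact RowS.of_pgap (ntc_minus hm hab h42 h52 h43) fun M hM => ominus_main tab hK hm hab hM.1

/-- **`PΩ⁺_{2m}(q)`, `m ≥ 5` odd.** -/
theorem rowS_oplus_odd (tab : OrderTable.{0}) (hK : Kn) {m : ℕ} (hm : 5 ≤ m) (ho : m % 2 = 1) :
    RowS (POmega F (quadFormPlus m F)) := by
  have hfin : Finite (POmega F (quadFormPlus m F)) := Quotient.finite _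
  refine RowS.of_pgap (ntc_plus_five hm) fun M hM => ?_
  rcases geo_plus_miss (F := F) (by omega : 4 ≤ m) (fun h => by omega) M with h | h | ⟨h, -⟩
  · exact h
  · rcases oplus_res tab hK hm hM.1 h with h | ⟨h, -⟩
    · exact h
    · omega
  · obtain ⟨k, hk⟩ := h
    omega

/-- `PGap` or no element of order `N` -/
theorem even_cases (tab : OrderTable.{0}) (hK : Kn) {k N f : ℕ} (hk : 3 ≤ k) (hN : N.Coprime (8 * f))
    (hpt : ∀ {M : Subgroup (POmega F (⇑(quadPlus (2 * k) F)))} {v : (Fin (2 * k) ⊕ Fin (2 * k)) → F},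
      quadPlus (2 * k) F v ≠ 0 → pre (⇑(quadPlus (2 * k) F)) M ≤ subspaceStabilizer (Submodule.span F {v}) →
      ∀ m ∈ M, orderOf m ≠ N)
    (hsoc : ∀ {S : Type} [Group S] {g : Grp}, (g = .psp (2 * k - 1) (Fintype.card F) ∨
      g = .oodd (2 * k - 1) (Fintype.card F)) → IsNamed g S → Blk S f N)
    {R : Subgroup (POmega F (quadFormPlus (2 * k) F))} (hR : R ≠ ⊤) :
    PGap (POmega F (quadFormPlus (2 * k) F)) R ∨ ∀ x ∈ R, orderOf x ≠ N := by
  have hgeo : ∀ K : Subgroup (POmega F (⇑(quadPlus (2 * k) F))), PGap (POmega F (⇑(quadPlus (2 * k) F))) K ∨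
      InOrthogonalResidualClass (pre (⇑(quadPlus (2 * k) F)) K) ∨ ∀ x ∈ K, orderOf x ≠ N := by
    intro K
    rcases plus_miss (m := 2 * k) (by omega) (card_plus (2 * k)) (nondeg_iff.2 quadPlus_nondegenerate)
      (isPlus_quadPlus (2 * k)) (fun h => by omega) (data_plus (by omega)) K with h | h | ⟨-, v, hv, hMv⟩
    · exact Or.inl h
    · exact Or.inr (Or.inl h)
    · exact Or.inr (Or.inr (hpt hv hMv))
  rw [coe_quadPlus] at hgeo
  rcases hgeo R with h | h | h
  · exact Or.inl h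
  · rcases oplus_res tab hK (by omega) hR h with h | ⟨-, g, hg, S, hSn, hSs, hna', hC, hS, -⟩
    · exact Or.inl h
    · exact Or.inr (no_of_blk S hC hN (hsoc hg hS))
  · exact Or.inr h

/-- `N` is prime to `r` -/
theorem not_dvd_two_pow {q k r : ℕ} (hk : 3 ≤ k) (hq : 1 ≤ q) (hr : PP q (2 * (k - 1)) r) : ¬ r ∣ q ^ (k + 1) + 1 := by
  intro h
  have h1 : r ∣ q ^ (2 * (k + 1)) - 1 := by
    have h2 : q ^ (2 * (k + 1)) - 1 = (q ^ (k + 1) + 1) * (q ^ (k + 1) - 1) := by
      rw [mul_comm 2, pow_mul]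
      have := Nat.sq_sub_sq (q ^ (k + 1)) 1
      rwa [one_pow] at this
    rw [h2]
    exact h.mul_right _
  have h3 := (hr.dvd_iff hq _).1 h1
  have h4 : k - 1 ∣ k + 1 := (Nat.mul_dvd_mul_iff_left (by norm_num)).1 h3
  have h5 : k - 1 ∣ 2 := by
    have h2 : k + 1 = (k - 1) + 2 := by omega
    rw [h2] at h4
    exact (Nat.dvd_add_right dvd_rfl).1 h4
  have h6 := Nat.le_of_dvd (by norm_num) h5
  have h7 : k = 3 := by omega
  subst h7
  have h8 : r ∣ q ^ 2 + 1 := dvd_pow_add_one hq (by norm_num) hr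
  have h9 : r ∣ q ^ 4 - 1 := by
    have h2 : q ^ 4 - 1 = (q ^ 2 + 1) * (q ^ 2 - 1) := by
      have := Nat.sq_sub_sq (q ^ 2) 1
      rw [one_pow] at this
      rw [← this]
      congr 1
      ring
    rw [h2]
    exact h8.mul_right _
  have h10 := Nat.dvd_sub h h9
  have h11 : 1 ≤ q ^ 4 := Nat.one_le_pow _ _ hq
  rw [show q ^ (3 + 1) + 1 - (q ^ 4 - 1) = 2 by
    have : q ^ (3 + 1) = q ^ 4 := rfl
    omega] at h10
  have h12 := Nat.le_of_dvd (by norm_num) h10
  have h13 := hr.lt (by omega)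
  omega

/-- `PΩ⁺_{4k}(q)`, `k ≥ 3`, `(q, k) ≠ (2, 3), (2, 4)` -/
theorem rowS_even_gen (tab : OrderTable.{0}) (hK : Kn) {k : ℕ} (hk : 3 ≤ k)
    (h2 : ¬ (Fintype.card F = 2 ∧ k ≤ 4)) : RowS (POmega F (quadFormPlus (2 * k) F)) := by
  have hfin : Finite (POmega F (quadFormPlus (2 * k) F)) := Quotient.finite _
  obtain ⟨p, f, hp, hf, hc, hf'⟩ := exists_pf F
  have := Fact.mk hp
  have hF : Fintype.card F = p ^ f := by rw [← Nat.card_eq_fintype_card, hc]
  obtain ⟨r, s, hN, hr, hs, -⟩ := exists_rs (k := k) hp hf hk (fun h => h2 ⟨by rw [hF, h.1], h.2.le⟩)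
  have hq1 : 1 ≤ p ^ f := Nat.one_le_pow _ _ hp.pos
  have hsq : ¬ s ∣ Nat.card F := by rw [hc]; exact hs.not_dvd (by omega)
  have hee : ee (Nat.card F) s = 2 * (k + 1) := by rw [hc]; exact hs.ord
  have heta : eta (ee (Nat.card F) s) = k + 1 := by
    rw [hee, eta, if_pos (even_two_mul _)]
    omega
  have hTh : Th (POmega F (quadFormPlus (2 * k) F)) (s * r) := by
    obtain ⟨N, hNo, hNt, hsN, hlt⟩ := exists_N1 hp hf hc hs.prime hsq (by omega) (fun h => h2 ⟨by
      rw [← Nat.card_eq_fintype_card]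
      exact h.1, by omega⟩) (fun h => by omega)
    rw [heta] at hlt
    have hNd : N ∣ Nat.card F ^ (k + 1) + 1 := by
      rw [tn, hee, if_pos (even_two_mul _), Nat.mul_div_cancel_left _ (by norm_num)] at hNt
      exact hNt
    have hcop : N.Coprime r := by
      rw [Nat.coprime_comm, hr.prime.coprime_iff_not_dvd]
      intro h
      exact not_dvd_two_pow hk hq1 hr (by rw [← hc]; exact h.trans hNd)
    have hcount := count_of (i := 1) (k := k + 1) (v := s) (f := f) (by omega) (by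
      have := hs.lt (by omega)
      omega) hlt
    exact th_plus (m := 2 * k) (a := k - 1) (b := k + 1) (ε := -1) (by omega) (by omega) (by omega) (by norm_num)
      hNo (hr.odd (by omega)) hcop (eltS_minus (by omega) hNo hNd)
      (elt_tor_minus (by omega) (by rw [hc]; exact dvd_pow_add_one hq1 (by omega) hr)) hs.prime hsN
      (by rw [hf']; rwa [one_mul] at hcount)
  refine RowS.of_three fun M hM => ?_
  rcases even_cases tab hK (F := F) (f := f) hk hN.2
    (fun {M v} hv hMv => plus_point_gap (nondeg_iff.2 quadPlus_nondegenerate) (data_plus (by omega)) hk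
      (by rw [hc]; exact hN.1) (by rw [card_plus]; omega) hv hMv)
    (fun {S} _ {g} hg hS => by
      rw [hF] at hg
      rcases hg with rfl | rfl
      · exact blk_psp hp hf hk hN hS
      · exact blk_oodd hp hf hk hN hS) hM.1 with h | h
  · exact Three.of_pgap (ntc_plus_five (by omega)) h
  · refine hTh.three fun x hx ho => h x hx ?_
    rw [ho, mul_comm]

/-! ### the field of two elements -/

theorem blk_of_lm {S : Type} [Group S] {n N d : ℕ} (hn : 3 ≤ n) (hnd : 2 * n < d)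
    (hL : ∀ (F : Type) [Field F] [Fintype F], Fintype.card F = 2 → Lm F N d)
    (hS : IsNamed (.psp n 2) S) : Blk S 1 N := by
  obtain ⟨F, _, _, hF, ⟨e⟩⟩ := hS.real
  have : Fact (Nat.Prime 2) := ⟨Nat.prime_two⟩
  have := charP_of Nat.prime_two le_rfl (show Fintype.card F = 2 ^ 1 by rw [hF, pow_one])
  have h1 := Cfsg.Agent.S0814.result (F := F) 2 1 le_rfl (by rw [hF, pow_one]) n (by omega) (fun h => by omega)
  rw [if_neg (fun h => by omega), one_mul] at h1
  refine Blk.congr e ⟨_, ?_, h1, psp_of_lm (by omega) (hL F hF) hnd⟩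
  exact Nat.mul_dvd_mul_right ((Nat.gcd_dvd_left _ _).trans (by decide)) 1

theorem f_of_two (hF : Fintype.card F = 2) : Nat.card (F ≃+* F) = 1 :=
  Cfsg.Agent.Lib.FieldAutCard.card_ringAut (p := 2) (f := 1) le_rfl (by rw [hF, pow_one])

theorem cases_of_lm (tab : OrderTable.{0}) (hK : Kn) (hF : Fintype.card F = 2) {k N : ℕ} (hk : 3 ≤ k)
    (hN : Odd N) (hL : ∀ (F : Type) [Field F] [Fintype F], Fintype.card F = 2 → Lm F N (4 * k))
    {R : Subgroup (POmega F (quadFormPlus (2 * k) F))} (hR : R ≠ ⊤) :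
    PGap (POmega F (quadFormPlus (2 * k) F)) R ∨ ∀ x ∈ R, orderOf x ≠ N := by
  refine even_cases tab hK (F := F) (f := 1) hk (Nat.Coprime.pow_right 3 (Nat.coprime_two_right.2 hN))
    (fun {M v} hv hMv => point_of_lm (hL F hF) hN (nondeg_iff.2 quadPlus_nondegenerate) (data_plus (by omega))
      (by rw [card_plus]; omega) hv hMv) (fun {S} _ {g} hg hS => ?_) hR
  rw [hF] at hg
  rcases hg with rfl | rfl
  · exact blk_of_lm (by omega) (by omega) hL hS
  · exact absurd hS.cond.2.1 (by decide)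

theorem rowS_oplus_six_two (tab : OrderTable.{0}) (hK : Kn) (hF : Fintype.card F = 2) :
    RowS (POmega F (quadFormPlus 6 F)) := by
  have hfin : Finite (POmega F (quadFormPlus 6 F)) := Quotient.finite _
  have hc : Nat.card F = 2 := by rw [Nat.card_eq_fintype_card, hF]
  have h85 : NumP 2 1 3 85 := by
    refine ⟨Or.inr ⟨5, 17, by norm_num, ⟨by norm_num, ?_⟩, ⟨by norm_num, ?_⟩⟩, by decide⟩
    · rw [pow_one]
      refine (orderOf_eq_iff (by norm_num)).2 ⟨by decide, fun m hm hm0 => ?_⟩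
      interval_cases m <;> decide
    · rw [pow_one]
      refine (orderOf_eq_iff (by norm_num)).2 ⟨by decide, fun m hm hm0 => ?_⟩
      interval_cases m <;> decide
  have htw : Tw (POmega F (quadFormPlus 6 F)) (17 * 5) :=
    tw_plus (m := 6) (a := 2) (b := 4) (ε := -1) (by norm_num) (by norm_num) (by norm_num) (by norm_num) (by decide)
      (by norm_num) (by decide) (by norm_num) (eltS_minus (by norm_num) (by decide) (by rw [hc]; norm_num))
      (elt_tor_minus (by norm_num) (by rw [hc]; norm_num)) (by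
        rw [f_of_two hF, Nat.totient_prime (by norm_num)]
        norm_num)
  have h63 : ∃ x : POmega F (quadFormPlus 6 F), orderOf x = 63 :=
    (gp_plus_five (by norm_num)).of_odd (by decide) (elt_tor_plus (by norm_num) (by rw [hc]; norm_num))
  refine RowS.of_three fun M hM => ?_
  rcases cases_of_lm tab hK hF (k := 3) (N := 63) le_rfl (by decide) (fun F _ _ hF => lm63 hF) hM.1 with h | h
  · exact Three.of_pgap (ntc_plus_five (by omega)) h
  rcases even_cases tab hK (F := F) (f := 1) (k := 3) (N := 85) le_rfl h85.2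
    (fun {M v} hv hMv => plus_point_gap (nondeg_iff.2 quadPlus_nondegenerate) (data_plus (by omega)) le_rfl
      (by rw [hc]; exact h85.1) (by rw [card_plus]) hv hMv)
    (fun {S} _ {g} hg hS => by
      rw [hF] at hg
      rcases hg with rfl | rfl
      · exact blk_psp Nat.prime_two le_rfl le_rfl h85 hS
      · exact absurd hS.cond.2.1 (by decide)) hM.1 with h' | h'
  · exact Three.of_pgap (ntc_plus_five (by omega)) h'
  · exact htw.three h' h63 h (by norm_num)

theorem rowS_oplus_eight_two (tab : OrderTable.{0}) (hK : Kn) (hF : Fintype.card F = 2) :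
    RowS (POmega F (quadFormPlus 8 F)) := by
  have hfin : Finite (POmega F (quadFormPlus 8 F)) := Quotient.finite _
  have hc : Nat.card F = 2 := by rw [Nat.card_eq_fintype_card, hF]
  have hTh : Th (POmega F (quadFormPlus 8 F)) (31 * 7) :=
    th_plus (m := 8) (a := 3) (b := 5) (ε := 1) (by norm_num) (by norm_num) (by norm_num) (by norm_num) (by decide)
      (by decide) (by norm_num) (eltS_plus (by norm_num) (by rw [hc]; norm_num))
      (elt_tor_plus (by norm_num) (by rw [hc]; norm_num)) (by norm_num) dvd_rfl (by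
        rw [f_of_two hF]
        norm_num)
  refine RowS.of_three fun M hM => ?_
  rcases cases_of_lm tab hK hF (k := 4) (N := 217) (by norm_num) (by decide) (fun F _ _ hF => lm217 hF) hM.1 with h | h
  · exact Three.of_pgap (ntc_plus_five (by omega)) h
  · exact hTh.three h

/-- **`PΩ⁺_{2m}(q)`, `m ≥ 5`** -/
theorem rowS_oplus_five (tab : OrderTable.{0}) (hK : Kn) {m : ℕ} (hm : 5 ≤ m) :
    RowS (POmega F (quadFormPlus m F)) := by
  rcases Nat.even_or_odd m with ⟨k, hk⟩ | ho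
  · obtain rfl : m = 2 * k := by omega
    by_cases h2 : Fintype.card F = 2 ∧ k ≤ 4
    · obtain ⟨hF, hk4⟩ := h2
      have : k = 3 ∨ k = 4 := by omega
      rcases this with rfl | rfl
      · exact rowS_oplus_six_two tab hK hF
      · exact rowS_oplus_eight_two tab hK hF
    · exact rowS_even_gen tab hK (by omega) h2
  · exact rowS_oplus_odd tab hK hm (Nat.odd_iff.1 ho)

end Cfsg.Agent.H320.Der
end

-- part: H320/Der/FourC
section
/-!
# `PΩ⁺_8(q)`, `q ≥ 4`: proper subgroups miss a prime or have no elements of order `N₀(q)` (helper320, S3502)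

After `H938/Sax/PEight.lean` and `H997/PF/RowsCl.lean`.
-/

set_option autoImplicit false
set_option linter.unusedSectionVars false

namespace Cfsg.Agent.H320.Der

open Module QuadraticMap Cfsg Cfsg.Geo Cfsg.Agent.OrdDiv Cfsg.Agent.H436 Cfsg.Agent.H264.FKS Cfsg.Agent.H264.GN
  Cfsg.Agent.H915.GN Cfsg.Agent.H938.Sax Cfsg.Agent.H884.El Cfsg.Agent.H278.El.Asm
  Cfsg.Agent.LieClassical.OmegaReindex Cfsg.Agent.LieClassical.OrthCore Cfsg.Agent.H955 Cfsg.Agent.LieClassical
open Cfsg.Agent.H278.El.SporNum (IsCl exc)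
open Cfsg.Agent.H278.El.AltNum (dimOf surv)
open Cfsg.Agent.H884.Cx (excP)

open Cfsg.Agent.H938.Sax.Ord (Lcm)
open scoped MatrixGroups Matrix

universe u

section rows

variable {p f : ℕ} {T : Type u} [Group T] [Finite T]

/-- subgroups with socle `PSp_6(q)`, `Ω_7(q)` have no elements of order `N₀(q)` -/
theorem miss_eight {R : Subgroup T} (hp : p.Prime) (hf : 1 ≤ f) (hq : 4 ≤ p ^ f) (S : Subgroup R) [S.Normal]
    (hC : Subgroup.centralizer (S : Set R) = ⊥)
    (hS : IsNamed (.psp 3 (p ^ f)) S ∨ IsNamed (.oodd 3 (p ^ f)) S)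
    (hcard : p ^ f % 4 = 1 → Nat.card R ≠ Nat.card (MulAut S)) : ∀ x ∈ R, orderOf x ≠ N0 (p ^ f) := by
  have : Fact p.Prime := ⟨hp⟩
  obtain ⟨r, hr'⟩ := exists_pp (q := p) (e := f * 4) hp.two_le (by omega) (fun h => by omega)
  have hr := hr'.of_pow hf
  have hlt := hr'.lt (by omega)
  -- the automorphism group of the socle
  have hmul : Nat.card (MulAut S) = (Nat.gcd 2 (p ^ f - 1) * f) * Nat.card S := by
    rcases hS with hS | hS
    · obtain ⟨F, _, _, hF, ⟨e⟩⟩ := hS.real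
      have h3 := Cfsg.Agent.S0814.result (F := F) p f hf hF 3 (by omega) (fun h => by omega)
      rw [← Nat.card_congr e.toEquiv, ← Nat.card_congr (MulAut.congr e).toEquiv, if_neg (by omega), one_mul] at h3
      exact h3
    · obtain ⟨F, _, _, hF, ⟨e⟩⟩ := hS.real
      have hodd : Odd p := by
        have h5 := hS.cond.2.1
        rwa [Nat.odd_pow_iff (by omega)] at h5
      have h3 := Cfsg.Agent.S0816.result (F := F) p f hf hF hodd 3 le_rfl
      rw [← Nat.card_congr e.toEquiv, ← Nat.card_congr (MulAut.congr e).toEquiv] at h3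
      rw [h3, Nat.gcd_eq_left ((hodd.pow (n := f)).tsub_odd odd_one).two_dvd]
  have hidx := Cfsg.Agent.H938.Sax.index_dvd S hC hmul
  have hc2 : Nat.gcd 2 (p ^ f - 1) ≤ 2 := Nat.gcd_le_left _ (by norm_num)
  have hc0 : 0 < Nat.gcd 2 (p ^ f - 1) := Nat.gcd_pos_of_pos_left _ (by norm_num)
  have hle : S.index ≤ 2 * f := (Nat.le_of_dvd (Nat.mul_pos hc0 (by omega)) hidx).trans (Nat.mul_le_mul_right f hc2)
  have hpos : 0 < S.index := Nat.pos_of_ne_zero fun h => by
    rw [h, zero_dvd_iff] at hidx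
    rcases Nat.mul_eq_zero.1 hidx with h | h <;> omega
  intro m hm ho
  have h1 : orderOf (⟨m, hm⟩ : R) = N0 (p ^ f) := by rw [← ho, ← Subgroup.orderOf_coe]
  have h2 : (⟨m, hm⟩ : R) ^ S.index ∈ S := Subgroup.pow_index_mem S _
  have hdv : orderOf (⟨_, h2⟩ : S) ∣ N0 (p ^ f) := by
    rw [Subgroup.orderOf_mk, ← h1]
    exact orderOf_pow_dvd _
  have hrd : r ∣ orderOf (⟨_, h2⟩ : S) := by
    rw [Subgroup.orderOf_mk]
    have h3 : N0 (p ^ f) ∣ S.index * orderOf ((⟨m, hm⟩ : R) ^ S.index) := by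
      rw [← h1]
      exact orderOf_dvd_of_pow_eq_one (by rw [pow_mul, pow_orderOf_eq_one])
    rcases hr.prime.dvd_mul.1 ((pp_dvd_N0 (by omega) hr).trans h3) with h4 | h4
    · have := Nat.le_of_dvd hpos h4
      omega
    · exact h4
  have hL : Lcm (p ^ f) (⟨_, h2⟩ : S) := by
    rcases hS with hS | hS
    · obtain ⟨F, _, _, hF, ⟨e⟩⟩ := hS.real
      refine lcm_of_injective e.toMonoidHom e.injective ?_
      have h3 : orderOf (e.toMonoidHom (⟨_, h2⟩ : S)) = orderOf (⟨_, h2⟩ : S) := orderOf_injective _ e.injective _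
      rw [← hF]
      rw [← hF] at hdv
      refine lcm_psp (r := r) (by rw [Nat.card_eq_fintype_card, hF]; exact hr) (by rw [h3]; exact hrd) ?_
      rw [h3]
      exact cast_ne_zero hdv
    · obtain ⟨F, _, _, hF, ⟨e⟩⟩ := hS.real
      refine lcm_of_injective e.toMonoidHom e.injective ?_
      have h3 : orderOf (e.toMonoidHom (⟨_, h2⟩ : S)) = orderOf (⟨_, h2⟩ : S) := orderOf_injective _ e.injective _
      have hodd : Odd (Fintype.card F) := hF ▸ hS.cond.2.1
      have h2F := H390.two_ne_zero_of_odd hodd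
      rw [← hF]
      rw [← hF] at hdv
      have key : ∀ y : POmega F (⇑(quadOdd 3 F)), r ∣ orderOf y → ((orderOf y : ℕ) : F) ≠ 0 →
          Lcm (Fintype.card F) y := fun y h6 h7 =>
        lcm_seven h2F (nondeg_iff.2 (quadOdd_nondegenerate h2F)) (data_odd le_rfl h2F)
          (by rw [Nat.card_eq_fintype_card, hF]; exact hr) h6 h7 (card_odd 3)
      rw [coe_quadOdd] at key
      refine key _ (by rw [h3]; exact hrd) ?_
      rw [h3]
      exact cast_ne_zero hdv
  have hL' : Lcm (p ^ f) ((⟨m, hm⟩ : R) ^ S.index) := lcm_map S.subtype hL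
  obtain ⟨h5, h6⟩ := residual_num hp hf hq h1 hidx hL'
  apply hcard h5
  rw [hmul, ← h6, mul_comm, S.card_mul_index]

end rows

section cl

variable {F : Type} [Field F] [Fintype F]

/-- **`PΩ⁺_8(q)`, `q ≥ 4`, residual class** -/
theorem four_res (tab : OrderTable.{0}) (hK : Kn) (hq : 4 ≤ Fintype.card F)
    {R : Subgroup (POmega F (quadFormPlus 4 F))} (hR : R ≠ ⊤)
    (h : InOrthogonalResidualClass (pre (quadFormPlus 4 F) R)) :
    PGap (POmega F (quadFormPlus 4 F)) R ∨ ∀ x ∈ R, orderOf x ≠ N0 (Fintype.card F) := by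
  obtain ⟨p, f, hp, hf, hF, hpF⟩ := Cfsg.Agent.H997.PF.exists_pf F
  have hT : IsNamed (.oplus 4 (Fintype.card F)) (POmega F (quadFormPlus 4 F)) := named_oplus (F := F) (by omega)
  have hfin : Finite (POmega F (quadFormPlus 4 F)) := Quotient.finite _
  have hι : Fintype.card (Fin 4 ⊕ Fin 4) = 2 * 4 := by
    rw [Fintype.card_sum, Fintype.card_fin]
  obtain ⟨P, hP, -⟩ := h
  obtain ⟨S, hSn, hSs, hna, hC, ⟨e⟩⟩ := exists_res_plus (by omega) (M := R) hP
  obtain ⟨g, hg⟩ := named_of_simple tab hK hna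
  refine res_kill (p := p) hT trivial ?_ ?_ S hC hg e hι (fun h => Or.inl h) ?_ ?_
  · simp only [surv, List.mem_cons, Grp.oplus.injEq, reduceCtorEq, or_false, false_or, List.not_mem_nil]
    omega
  · intro g' hg'
    simp only [exc, List.mem_cons, Prod.mk.injEq, Grp.oplus.injEq, reduceCtorEq, and_false, or_false, false_or,
      List.not_mem_nil] at hg'
    omega
  · intro hch
    by_cases hfull : Full (POmega F (quadFormPlus 4 F)) R
    · have hT' : IsNamed (.oplus 4 (p ^ f)) (POmega F (quadFormPlus 4 F)) := by rw [← hF]; exact hT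
      have hq' : 4 ≤ p ^ f := by rw [← hF]; exact hq
      obtain ⟨-, h2⟩ := full_oplus' hT' hp hf (by omega) (fun h => by
          obtain ⟨rfl, h⟩ := h
          have : f = 1 := by omega
          subst this
          norm_num at hq') (fun h => by omega) hR hfull S hna hC hg hch
      have h3 : IsNamed (.psp 3 (p ^ f)) S ∨ IsNamed (.oodd 3 (p ^ f)) S := by
        rcases h2 with rfl | rfl
        · exact Or.inl hg
        · exact Or.inr hg
      refine Or.inr ?_
      rw [hF]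
      exact miss_eight hp hf hq' S hC h3 fun h8 => Cfsg.Agent.H833.PlusTwo.card_ne' hT' h8 S hC h3
    · exact Or.inl (pgap_of_not_full hfull)
  · intro s hs hsp hch
    rcases cross_gen hp hT trivial (hasChar_card hp hpF) hι hpF S hSn hSs hna hC hP ⟨e⟩
      hs hsp hg hch with h | h
    · exact Or.inl h
    · simp only [excP, List.mem_cons, Prod.mk.injEq, Grp.oplus.injEq, reduceCtorEq, and_false, or_false,
        false_or, List.not_mem_nil] at h
      omega

/-- **`PΩ⁺_8(q)`, `q ≥ 4`** -/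
theorem four_cl (tab : OrderTable.{0}) (hK : Kn) (hq : 4 ≤ Fintype.card F)
    {R : Subgroup (POmega F (quadFormPlus 4 F))} (hR : R ≠ ⊤) :
    PGap (POmega F (quadFormPlus 4 F)) R ∨ ∀ x ∈ R, orderOf x ≠ N0 (Fintype.card F) := by
  have hgeo : ∀ K : Subgroup (POmega F (⇑(quadPlus 4 F))), PGap (POmega F (⇑(quadPlus 4 F))) K ∨
      InOrthogonalResidualClass (pre (⇑(quadPlus 4 F)) K) ∨ ∀ x ∈ K, orderOf x ≠ N0 (Fintype.card F) := by
    intro M
    rcases plus_miss le_rfl (card_plus 4) (nondeg_iff.2 quadPlus_nondegenerate) (isPlus_quadPlus 4)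
      (fun h => by rw [Nat.card_eq_fintype_card] at h; omega) (data_plus le_rfl) M with h | h | ⟨-, v, hv, hMv⟩
    · exact Or.inl h
    · exact Or.inr (Or.inl h)
    · right
      right
      obtain ⟨r, hr⟩ := exists_pp (q := Nat.card F) (e := 4) Finite.one_lt_card (by omega) (by omega)
      intro x hx ho
      refine not_lcm hq ho (lcm_point (nondeg_iff.2 quadPlus_nondegenerate) (data_plus le_rfl) hr hv hMv hx ?_ ?_
        (card_plus 4))
      · rw [ho]
        exact pp_dvd_N0 Fintype.one_lt_card (by rwa [Nat.card_eq_fintype_card] at hr)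
      · rw [ho]
        exact cast_ne_zero dvd_rfl
  rw [coe_quadPlus] at hgeo
  rcases hgeo R with h | h | h
  · exact Or.inl h
  · exact four_res tab hK hq hR h
  · exact Or.inr h

end cl

end Cfsg.Agent.H320.Der
end

-- part: H320/Der/Orb2
section
/-!
# Counting `Aut T`-classes when a coset of `A` does not contribute; elements of even order (helper320, S3502)
-/

set_option autoImplicit false
set_option linter.unusedSectionVars false

namespace Cfsg.Agent.H320.Der

open Module Subgroup QuadraticMap Cfsg.Agent.H439.Der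
open Cfsg.Agent.LieClassical.OrthCore Cfsg.Agent.LieClassical.OrthTrans Cfsg.Agent.AutOrth.SemiSim
  Cfsg.Agent.AutOrth.Gen Cfsg.Agent.ClassicalGeometry.OrthAut1 Cfsg.Agent.AutOrth.Main

section grp

variable {T : Type*} [Group T]

/-- no automorphism in the coset `g₀ A` moves an element of `S` back into `S` -/
def Ex (A : Subgroup (MulAut T)) (S : Set T) (g₀ : MulAut T) : Prop :=
  ∀ x ∈ S, ∀ φ : MulAut T, φ x ∈ S → ∀ a ∈ A, φ⁻¹ ≠ g₀ * a

theorem orb_le_ex [Finite T] {A : Subgroup (MulAut T)} {S : Set T} {b : ℕ} (h : Orb A S b) {g₀ : MulAut T}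
    (hE : Ex A S g₀) {x : T} (hx : x ∈ S) :
    Nat.card {y // y ∈ S ∧ ∃ φ : MulAut T, φ x = y} ≤ (A.index - 1) * b := by
  classical
  have : Finite (MulAut T) := Finite.of_injective (fun f : MulAut T => (f : T → T)) DFunLike.coe_injective
  have := Fintype.ofFinite T
  have := Fintype.ofFinite (MulAut T ⧸ A)
  let P : Finset T := Finset.univ.filter fun y => y ∈ S ∧ ∃ φ : MulAut T, φ x = y
  have hP : Nat.card {y // y ∈ S ∧ ∃ φ : MulAut T, φ x = y} = P.card := by
    rw [Nat.card_eq_fintype_card, Fintype.card_subtype]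
  have hφ : ∀ y : T, ∃ φ : MulAut T, y ∈ P → φ x = y := by
    intro y
    by_cases hy : y ∈ P
    · obtain ⟨φ, hφ⟩ := (Finset.mem_filter.1 hy).2.2
      exact ⟨φ, fun _ => hφ⟩
    · exact ⟨1, fun h => absurd h hy⟩
  choose φ hφ using hφ
  have hc : (Finset.univ.erase (QuotientGroup.mk g₀ : MulAut T ⧸ A)).card = A.index - 1 := by
    rw [Finset.card_erase_of_mem (Finset.mem_univ _), Finset.card_univ, Subgroup.index, Nat.card_eq_fintype_card]
  rw [hP, mul_comm, ← hc]
  refine Finset.card_le_mul_card_image_of_maps_to (f := fun y => (QuotientGroup.mk (φ y)⁻¹ : MulAut T ⧸ A))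
    (fun y hy => ?_) _ ?_
  · rw [Finset.mem_erase]
    refine ⟨fun h1 => ?_, Finset.mem_univ _⟩
    rw [QuotientGroup.eq, inv_inv] at h1
    refine hE x hx (φ y) (by rw [hφ y hy]; exact (Finset.mem_filter.1 hy).2.1) (φ y * g₀)⁻¹ (A.inv_mem h1) ?_
    group
  · intro c _
    rcases Finset.eq_empty_or_nonempty (P.filter fun y => (QuotientGroup.mk (φ y)⁻¹ : MulAut T ⧸ A) = c) with h0 | ⟨y0, hy0⟩
    · rw [h0]; exact Nat.zero_le _
    rw [Finset.mem_filter] at hy0
    refine le_trans ?_ (h y0 (Finset.mem_filter.1 hy0.1).2.1)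
    rw [Nat.card_eq_fintype_card, Fintype.card_subtype]
    refine Finset.card_le_card fun y hy => ?_
    rw [Finset.mem_filter] at hy
    rw [Finset.mem_filter]
    refine ⟨Finset.mem_univ _, (Finset.mem_filter.1 hy.1).2.1, φ y * (φ y0)⁻¹, ?_, ?_⟩
    · have h1 : (QuotientGroup.mk (φ y)⁻¹ : MulAut T ⧸ A) = QuotientGroup.mk (φ y0)⁻¹ := by rw [hy.2, hy0.2]
      rw [QuotientGroup.eq, inv_inv] at h1
      exact h1
    · have h1 : (φ y0)⁻¹ y0 = x := by
        have h2 := MulAut.inv_apply_self T (φ y0) x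
        rwa [hφ y0 hy0.1] at h2
      rw [MulAut.mul_apply, h1, hφ y hy.1]

theorem exists_two_ex [Finite T] {A : Subgroup (MulAut T)} {S : Set T} {b : ℕ} (h : Orb A S b) {g₀ : MulAut T}
    (hE : Ex A S g₀) (hS : (A.index - 1) * b < Nat.card S) : ∃ x y : T, x ∈ S ∧ y ∈ S ∧ ∀ φ : T ≃* T, φ x ≠ y := by
  by_contra hcon
  push Not at hcon
  have hne : Nonempty S := by
    by_contra hn
    rw [not_nonempty_iff] at hn
    rw [Nat.card_of_isEmpty] at hS
    omega
  obtain ⟨x, hx⟩ := hne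
  have h1 := orb_le_ex h hE hx
  have h2 : Nat.card S ≤ Nat.card {y // y ∈ S ∧ ∃ φ : MulAut T, φ x = y} := by
    refine Nat.card_le_card_of_injective (fun y : S => (⟨y.1, y.2, hcon x y.1 hx y.2⟩ :
      {y // y ∈ S ∧ ∃ φ : MulAut T, φ x = y})) fun a b hab => ?_
    exact Subtype.ext (Subtype.mk.inj hab)
  omega

theorem exists_three_ex [Finite T] {A : Subgroup (MulAut T)} {S : Set T} {b : ℕ} (h : Orb A S b) {g₀ : MulAut T}
    (hE : Ex A S g₀)
    (hS : 2 * ((A.index - 1) * b) < Nat.card S) : ∃ x y z : T, x ∈ S ∧ y ∈ S ∧ z ∈ S ∧ (∀ φ : T ≃* T, φ x ≠ y) ∧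
      (∀ φ : T ≃* T, φ x ≠ z) ∧ ∀ φ : T ≃* T, φ y ≠ z := by
  classical
  obtain ⟨x, y, hx, hy, hxy⟩ := exists_two_ex h hE (by omega)
  by_contra hcon
  push Not at hcon
  have h1 := orb_le_ex h hE hx
  have h2 := orb_le_ex h hE hy
  have h3 : Nat.card S ≤ Nat.card {z // z ∈ S ∧ ∃ φ : MulAut T, φ x = z} + Nat.card {z // z ∈ S ∧ ∃ φ : MulAut T, φ y = z} := by
    have key : ∀ z : S, (∃ φ : MulAut T, φ x = z) ∨ ∃ φ : MulAut T, φ y = z := by
      intro z
      by_cases hz : ∃ φ : MulAut T, φ x = z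
      · exact Or.inl hz
      · right
        push Not at hz
        exact hcon x y z hx hy z.2 hxy hz
    rw [← Nat.card_sum]
    refine Nat.card_le_card_of_injective (fun z : S =>
      if hz : ∃ φ : MulAut T, φ x = z then Sum.inl ⟨z.1, z.2, hz⟩ else Sum.inr ⟨z.1, z.2, (key z).resolve_left hz⟩)
      fun a b hab => ?_
    by_cases ha : ∃ φ : MulAut T, φ x = a <;> by_cases hb : ∃ φ : MulAut T, φ x = b
    · simp only [dif_pos ha, dif_pos hb, Sum.inl.injEq, Subtype.mk.injEq] at hab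
      exact Subtype.ext hab
    · simp only [dif_pos ha, dif_neg hb, reduceCtorEq] at hab
    · simp only [dif_neg ha, dif_pos hb, reduceCtorEq] at hab
    · simp only [dif_neg ha, dif_neg hb, Sum.inr.injEq, Subtype.mk.injEq] at hab
      exact Subtype.ext hab
  omega

end grp

section even

variable {F V : Type*} [Field F] [AddCommGroup V] [Module F V] {Q : QuadraticForm F V}

/-- the centre consists of `± 1` -/
theorem center_cases (hG : _root_.Cfsg.Agent.LieClassical.OrthTrans.Good Q) {z : ↥(E Q)} (hz : z ∈ center ↥(E Q)) :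
    z = 1 ∨ ∀ v, (z : V ≃ₗ[F] V) v = -v := by
  obtain ⟨c, hc⟩ := scalar_of_center hG hz
  obtain ⟨x, y, h⟩ := hG.exists_hyp
  have h1 : c * c = 1 := by
    have h2 : polar Q ((z : V ≃ₗ[F] V) x) ((z : V ≃ₗ[F] V) y) = polar Q x y := polar_map (E_le_O z.2) x y
    rw [hc, hc, polar_smul_left, polar_smul_right, h.pair] at h2
    simpa only [mul_assoc, _root_.smul_eq_mul, _root_.mul_one] using h2
  have h2 : (c - 1) * (c + 1) = 0 := by linear_combination h1
  rcases mul_eq_zero.1 h2 with h3 | h3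
  · left
    apply ext_E
    intro v
    rw [hc, sub_eq_zero.1 h3, one_smul]
    rfl
  · right
    intro v
    rw [hc, eq_neg_of_add_eq_zero_left h3, neg_smul, one_smul]

theorem neg_mem_center {z : ↥(E Q)} (hz : ∀ v, (z : V ≃ₗ[F] V) v = -v) : z ∈ center ↥(E Q) := by
  rw [mem_center_iff]
  intro g
  apply ext_E
  intro v
  show (g : V ≃ₗ[F] V) ((z : V ≃ₗ[F] V) v) = (z : V ≃ₗ[F] V) ((g : V ≃ₗ[F] V) v)
  rw [hz, hz, map_neg]

theorem orderOf_mk_even (hG : _root_.Cfsg.Agent.LieClassical.OrthTrans.Good Q) {g : ↥(E Q)} {N : ℕ} (hg : orderOf g = 2 * N)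
    (hgN : ∀ v, ((g ^ N : ↥(E Q)) : V ≃ₗ[F] V) v = -v) : orderOf ((g : ↥(E Q)) : P Q) = N := by
  apply Nat.dvd_antisymm
  · apply orderOf_dvd_of_pow_eq_one
    rw [← QuotientGroup.mk_pow, QuotientGroup.eq_one_iff]
    exact neg_mem_center hgN
  · have h1 : g ^ orderOf ((g : ↥(E Q)) : P Q) ∈ center ↥(E Q) := by
      rw [← QuotientGroup.eq_one_iff, QuotientGroup.mk_pow, pow_orderOf_eq_one]
    have h2 := center_sq hG h1
    rw [← pow_mul, ← orderOf_dvd_iff_pow_eq_one, hg, mul_comm] at h2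
    exact Nat.dvd_of_mul_dvd_mul_right (by norm_num) h2

/-- **The bound for the classes**, even order. -/
theorem orb_even [Finite F] [FiniteDimensional F V] (hG : _root_.Cfsg.Agent.LieClassical.OrthTrans.Good Q) (h7 : 7 ≤ finrank F V) [Finite (P Q)]
    {A : Subgroup (MulAut (P Q))} (hA : ∀ α ∈ A, Pt hG α) {g : ↥(E Q)} {N w : ℕ} (hN : Even N) (hN0 : 0 < N)
    (hg : orderOf g = 2 * N) (hgN : ∀ v, ((g ^ N : ↥(E Q)) : V ≃ₗ[F] V) v = -v)
    (hev : HasEV (lin g) (2 * N)) (hw : finrank F (LinearMap.range (lin g - 1)) ≤ w) :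
    Orb A {y : P Q | y ∈ zpowers ((g : ↥(E Q)) : P Q) ∧ N ∣ orderOf y} (Nat.card (F ≃+* F) * w) := by
  classical
  have := finite_E (Q := Q)
  have hgo := orderOf_mk_even hG hg hgN
  rintro y ⟨hy, hvy⟩
  obtain ⟨i, hi⟩ : ∃ i : ℕ, ((g : ↥(E Q)) : P Q) ^ i = y := by
    rw [← mem_powers_iff_mem_zpowers] at hy
    exact hy
  have hyN : orderOf y = N := Nat.dvd_antisymm (by rw [← hgo]; exact orderOf_dvd_of_mem_zpowers hy) hvy
  have hcop : Nat.Coprime N i := by
    rw [← hi, orderOf_pow, hgo] at hyN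
    have h1 : N.gcd i ∣ N := Nat.gcd_dvd_left _ _
    obtain ⟨c, hc⟩ := h1
    have h2 : 0 < N.gcd i := Nat.gcd_pos_of_pos_left _ hN0
    have h3 : N / N.gcd i = c := Nat.div_eq_of_eq_mul_right h2 hc
    rw [h3] at hyN
    rw [hyN] at hc
    have h4 : 1 * N = N.gcd i * N := by rw [one_mul]; exact hc
    exact (Nat.eq_of_mul_eq_mul_right hN0 h4).symm
  have hiodd : Odd i := by
    rw [← Nat.not_even_iff_odd]
    intro he
    have h1 : 2 ∣ N.gcd i := Nat.dvd_gcd hN.two_dvd he.two_dvd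
    rw [hcop] at h1
    omega
  have hcop2 : Nat.Coprime (2 * N) i := Nat.Coprime.mul_left (Nat.coprime_two_left.2 hiodd) hcop
  set! h : ↥(E Q) := g ^ i with hh
  have hhy : ((h : ↥(E Q)) : P Q) = y := by rw [hh, QuotientGroup.mk_pow, hi]
  have ho : orderOf h = 2 * N := by rw [hh, orderOf_pow, hg, hcop2, Nat.div_one]
  have hhN : ∀ v, ((h ^ N : ↥(E Q)) : V ≃ₗ[F] V) v = -v := by
    have h1 : h ^ N = (g ^ N) ^ i := by rw [hh, ← pow_mul, ← pow_mul, mul_comm]
    have h2 : ∀ j v, (((g ^ N) ^ (2 * j + 1) : ↥(E Q)) : V ≃ₗ[F] V) v = -v := by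
      intro j
      induction j with
      | zero => intro v; rw [mul_zero, zero_add, pow_one]; exact hgN v
      | succ j ih =>
        intro v
        have h3 : (g ^ N) ^ (2 * (j + 1) + 1) = (g ^ N) ^ (2 * j + 1) * ((g ^ N) * (g ^ N)) := by
          rw [← pow_two, ← pow_add]
          congr 1
        rw [h3]
        show (((g ^ N) ^ (2 * j + 1) : ↥(E Q)) : V ≃ₗ[F] V) (((g ^ N : ↥(E Q)) : V ≃ₗ[F] V)
          (((g ^ N : ↥(E Q)) : V ≃ₗ[F] V) v)) = -v
        rw [ih, hgN, hgN, neg_neg]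
    obtain ⟨j, hj⟩ := hiodd
    rw [h1, hj]
    exact h2 j
  have hlin : lin h = lin g ^ i := by rw [hh, map_pow]
  have hev' : HasEV (lin h) (2 * N) := by
    rw [hlin]
    refine hev.pow ?_ (by omega)
    rw [hcop2, Nat.div_one]
  have hw' : finrank F (LinearMap.range (lin h - 1)) ≤ w := by
    rw [hlin]
    exact (Submodule.finrank_mono (range_pow_le _ i)).trans hw
  obtain ⟨a, R, ha, hR, hkey⟩ := ev_bound (by omega) ((orderOf_lin h).trans ho) hev' hw'
  have key : ∀ z : {z // z ∈ {y : P Q | y ∈ zpowers ((g : ↥(E Q)) : P Q) ∧ N ∣ orderOf y} ∧ ∃ α ∈ A, α y = z},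
      ∃ k : ℕ, ((h ^ k : ↥(E Q)) : P Q) = z ∧ a ^ k ∈ R := by
    rintro ⟨z, ⟨hz, -⟩, α, hα, hαz⟩
    have hzy : orderOf z = orderOf y := by rw [← hαz]; exact MulEquiv.orderOf_eq α y
    have h1 := mem_zpowers_of_order hy hz hzy
    obtain ⟨k, hk⟩ : ∃ k : ℕ, y ^ k = z := by
      rw [← mem_powers_iff_mem_zpowers] at h1
      exact h1
    obtain ⟨M, σ, c, hM, hMg⟩ := Cfsg.Agent.ClassicalGeometry.OrthAut4.exists_semi_P hG h7 α (hA α hα)
    have h2 : ((conjE hM h : ↥(E Q)) : P Q) = ((h ^ k : ↥(E Q)) : P Q) := by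
      rw [← hMg, hhy, hαz, QuotientGroup.mk_pow, hhy, hk]
    have h3 : (h ^ k)⁻¹ * conjE hM h ∈ center ↥(E Q) := by
      rw [← QuotientGroup.eq]
      exact h2.symm
    have hyN' : y ^ N = 1 := by rw [← hyN]; exact pow_orderOf_eq_one y
    obtain ⟨k', hk', h4⟩ : ∃ k' : ℕ, y ^ k' = z ∧ conjE hM h = h ^ k' := by
      rcases center_cases hG h3 with h5 | h5
      · exact ⟨k, hk, (inv_mul_eq_one.1 h5).symm⟩
      · refine ⟨k + N, by rw [pow_add, hyN', mul_one, hk], ?_⟩
        have h6 : (h ^ k)⁻¹ * conjE hM h = h ^ N := by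
          apply ext_E
          intro v
          rw [h5, hhN]
        rw [pow_add, ← h6]
        group
    refine ⟨k', by rw [QuotientGroup.mk_pow, hhy, hk'], ?_⟩
    refine hkey M σ hM.smul k' fun v => ?_
    rw [← map_pow, lin_apply, ← h4, conjE_apply, lin_apply]
  choose k hk1 hk2 using key
  refine le_trans ?_ hR
  rw [← Nat.card_eq_finsetCard R]
  refine Nat.card_le_card_of_injective (fun z => (⟨a ^ k z, hk2 z⟩ : R)) fun z z' hzz => ?_
  have h1 : a ^ k z = a ^ k z' := congrArg Subtype.val hzz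
  have h3 := modEq_of_pow_eq (by rw [ha]; omega) h1
  rw [ha, ← ho] at h3
  have h2 : h ^ k z = h ^ k z' := by
    rw [pow_eq_pow_iff_modEq]
    exact h3
  apply Subtype.ext
  rw [← hk1 z, ← hk1 z', h2]

end even

end Cfsg.Agent.H320.Der
end

-- part: H320/Der/Four
section
/-!
# `PΩ⁺_8(q)`: classes of the elements of order `N₀(q)` in the torus of order `q ^ 4 - 1` (helper320, S3502)
-/

set_option autoImplicit false
set_option linter.unusedSectionVars false

namespace Cfsg.Agent.H320.Der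

open Module Subgroup QuadraticMap Cfsg.Agent.H439.Der
open Cfsg.Agent.LieClassical.OrthCore Cfsg.Agent.LieClassical.OrthTrans Cfsg.Agent.AutOrth.SemiSim
  Cfsg.Agent.AutOrth.Gen Cfsg.Agent.ClassicalGeometry.OrthAut1 Cfsg.Agent.AutOrth.Main
  Cfsg.Agent.LieClassical.QuadForms Cfsg.Agent.H377
open Cfsg.Agent.ClassicalGeometry Cfsg.Agent.ClassicalGeometry.TrialityIndex
  Cfsg.Agent.ClassicalGeometry.TrialitySpaces

universe u

section torus

variable (F : Type u) [Field F] [Fintype F]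

/-- the torus of order `q ^ 4 - 1` and an invariant totally singular subspace -/
theorem exists_torus : ∃ (g : Module.End F (Fin 4 ⊕ Fin 4 → F)) (W : Submodule F (Fin 4 ⊕ Fin 4 → F)),
    (∀ v, plusForm 4 F (g v) = plusForm 4 F v) ∧ orderOf g = Nat.card F ^ 4 - 1 ∧ Sr g (Nat.card F ^ 4 - 1) ∧
      (∀ w ∈ W, plusForm 4 F w = 0) ∧ finrank F W = 4 ∧ ∀ w ∈ W, g w ∈ W := by
  obtain ⟨p, _⟩ := CharP.exists F
  have : Fact p.Prime := ⟨CharP.char_is_prime F p⟩
  let K := FiniteField.Extension F p 4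
  have hfr : Module.finrank F K = 4 := FiniteField.finrank_extension F p 4
  obtain ⟨l, hl⟩ := IsCyclic.exists_ofOrder_eq_natCard (α := Kˣ)
  have hcK : Nat.card K = Nat.card F ^ 4 := FiniteField.natCard_extension F p 4
  rw [Nat.card_units, hcK] at hl
  let g : Module.End F (K × K) := (LinearMap.mulLeft F (l : K)).prodMap (LinearMap.mulLeft F ((l⁻¹ : Kˣ) : K))
  have hg : ∀ (k : ℕ) (v : K × K), (g ^ k) v = (((l ^ k : Kˣ) : K) * v.1, (((l ^ k)⁻¹ : Kˣ) : K) * v.2) := by
    intro k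
    induction k with
    | zero => intro v; simp
    | succ k ih =>
      intro v
      rw [pow_succ, Module.End.mul_apply, ih]
      change (((l ^ k : Kˣ) : K) * ((l : K) * v.1), (((l ^ k)⁻¹ : Kˣ) : K) * (((l⁻¹ : Kˣ) : K) * v.2)) = _
      rw [pow_succ, mul_inv_rev, Units.val_mul, Units.val_mul, mul_assoc]
      congr 1
      rw [mul_comm ((l⁻¹ : Kˣ) : K) (((l ^ k)⁻¹ : Kˣ) : K), mul_assoc]
  let Q : QuadraticForm F (K × K) := (Algebra.trace F K).compQuadraticMap' (hypQ K)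
  have hQ' : ∀ v, Q v = Algebra.trace F K (v.1 * v.2) := fun v => rfl
  have hnd : Nondeg Q := by
    have key : ∀ a : K, (∀ c : K, Algebra.trace F K (c * a) = 0) → a = 0 := by
      intro a ha
      by_contra hne
      obtain ⟨t, ht⟩ := Algebra.trace_surjective F K 1
      have h5 := ha (t * a⁻¹)
      rw [mul_assoc, inv_mul_cancel₀ hne, mul_one, ht] at h5
      exact one_ne_zero h5
    intro x hx
    apply Prod.ext
    · refine key _ fun c => ?_
      have h2 := hx (0, c)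
      simp only [polar, hQ', Prod.fst_add, Prod.snd_add, add_zero, zero_mul, map_zero, sub_zero] at h2
      rw [← map_sub] at h2
      rw [← h2]
      congr 1
      ring
    · refine key _ fun c => ?_
      have h2 := hx (c, 0)
      simp only [polar, hQ', Prod.fst_add, Prod.snd_add, add_zero, mul_zero, map_zero, sub_zero] at h2
      rw [← map_sub] at h2
      rw [← h2]
      congr 1
      ring
  have hs : HasSign (⇑Q) 4 1 := by
    have h := (hasSign_mul (F := K)).res (F := F)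
    rw [hfr] at h
    exact h
  have hfin : Finite (K × K) := inferInstance
  obtain ⟨e, he⟩ := exists_plus (F := F) (V := K × K) (m := 4) (by norm_num)
    (by rw [Module.finrank_prod, hfr]) Q hnd hs
  have he' : ∀ v, plusForm 4 F v = Q (e v) := fun v => by rw [he, coe_plusForm]
  let g' : Module.End F (Fin 4 ⊕ Fin 4 → F) := (e.symm : (K × K) →ₗ[F] _).comp (g.comp (e : _ →ₗ[F] (K × K)))
  have hg' : ∀ (k : ℕ) (v : Fin 4 ⊕ Fin 4 → F), (g' ^ k) v = e.symm ((g ^ k) (e v)) := by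
    intro k
    induction k with
    | zero => intro v; simp
    | succ k ih =>
      intro v
      rw [pow_succ, Module.End.mul_apply, ih, pow_succ, Module.End.mul_apply]
      change e.symm ((g ^ k) (e (e.symm (g (e v))))) = _
      rw [e.apply_symm_apply]
  have hgv : ∀ v, g v = ((l : K) * v.1, ((l⁻¹ : Kˣ) : K) * v.2) := fun v => rfl
  refine ⟨g', LinearMap.range ((e.symm : (K × K) →ₗ[F] _).comp (LinearMap.inl F K K)), ?_, ?_, ?_, ?_, ?_, ?_⟩
  · intro v
    rw [he', he']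
    change Q (e (e.symm (g (e v)))) = _
    rw [e.apply_symm_apply, hQ', hQ', hgv]
    congr 1
    change (l : K) * (e v).1 * (((l⁻¹ : Kˣ) : K) * (e v).2) = _
    have h1 : (l : K) * ((l⁻¹ : Kˣ) : K) = 1 := Units.mul_inv l
    linear_combination (e v).1 * (e v).2 * h1
  · rw [← hl, orderOf_eq_orderOf_iff]
    intro k
    constructor
    · intro h
      have h1 := hg' k (e.symm (1, 0))
      rw [h, Module.End.one_apply, e.apply_symm_apply, hg] at h1
      have h2 := congrArg Prod.fst (e.symm.injective h1)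
      simp only [mul_one] at h2
      exact Units.ext h2.symm
    · intro h
      refine LinearMap.ext fun v => ?_
      rw [hg', hg, h]
      simp
  · intro v hv j hj
    rw [hg'] at hj
    have hj' : (g ^ j) (e v) = e v := by
      apply e.symm.injective
      rw [hj, e.symm_apply_apply]
    rw [hg] at hj'
    rw [← hl]
    apply orderOf_dvd_of_pow_eq_one
    have h1 := congrArg Prod.fst hj'
    have h2 := congrArg Prod.snd hj'
    change ((l ^ j : Kˣ) : K) * (e v).1 = (e v).1 at h1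
    change (((l ^ j)⁻¹ : Kˣ) : K) * (e v).2 = (e v).2 at h2
    by_cases hv1 : (e v).1 = 0
    · have hv2 : (e v).2 ≠ 0 := by
        intro h0
        apply hv
        rw [← LinearEquiv.map_eq_zero_iff e]
        exact Prod.ext hv1 h0
      have h3 : (((l ^ j)⁻¹ : Kˣ) : K) = 1 := mul_right_cancel₀ hv2 (by rw [h2, one_mul])
      exact inv_eq_one.1 (Units.ext h3)
    · have h3 : ((l ^ j : Kˣ) : K) = 1 := mul_right_cancel₀ hv1 (by rw [h1, one_mul])
      exact Units.ext h3
  · rintro _ ⟨a, rfl⟩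
    rw [he']
    change Q (e (e.symm (LinearMap.inl F K K a))) = 0
    rw [e.apply_symm_apply, hQ']
    simp
  · rw [LinearMap.finrank_range_of_inj, hfr]
    intro a b hab
    exact LinearMap.inl_injective (e.symm.injective hab)
  · rintro _ ⟨a, rfl⟩
    refine ⟨(l : K) * a, ?_⟩
    change e.symm (LinearMap.inl F K K ((l : K) * a)) = e.symm (g (e (e.symm (LinearMap.inl F K K a))))
    rw [e.apply_symm_apply, hgv]
    simp

end torus

/-- the number `N₀(q)` -/
def M0 (q : ℕ) : ℕ := if Odd q then (q ^ 4 - 1) / 4 else q ^ 4 - 1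

theorem eight_dvd {q : ℕ} (h : Odd q) : 8 ∣ q ^ 4 - 1 := by
  obtain ⟨k, rfl⟩ := h
  have h1 : (2 * k + 1) ^ 4 - 1 = 8 * (2 * k ^ 4 + 4 * k ^ 3 + 3 * k ^ 2 + k) := by
    have : (2 * k + 1) ^ 4 = 8 * (2 * k ^ 4 + 4 * k ^ 3 + 3 * k ^ 2 + k) + 1 := by ring
    omega
  rw [h1]
  exact dvd_mul_right _ _

section elt

variable {F : Type u} [Field F] [Fintype F]

/-- the element -/
def Elm (F : Type u) [Field F] [Fintype F] (N : ℕ) : Prop :=
  ∃ z : ↥(E (plusForm 4 F)), orderOf ((z : ↥(E (plusForm 4 F))) : P (plusForm 4 F)) = N ∧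
    (∀ A : Subgroup (MulAut (P (plusForm 4 F))), (∀ α ∈ A, Pt (good_plus (F := F) (m := 4) (by norm_num)) α) →
      Orb A {y : P (plusForm 4 F) | y ∈ zpowers ((z : ↥(E (plusForm 4 F))) : P (plusForm 4 F)) ∧ N ∣ orderOf y}
        (Nat.card (F ≃+* F) * 8)) ∧
    (∀ y : Fin 4 ⊕ Fin 4 → F, plusForm 4 F y = 0 → y ≠ 0 →
      ((z : ↥(E (plusForm 4 F))) : P (plusForm 4 F)) ∉
        stab (good_plus (F := F) (m := 4) (by norm_num)) (Submodule.span F {y})) ∧
    ∃ W : Submodule F (Fin 4 ⊕ Fin 4 → F), (∀ w ∈ W, plusForm 4 F w = 0) ∧ finrank F W = 4 ∧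
      ((z : ↥(E (plusForm 4 F))) : P (plusForm 4 F)) ∈ stab (good_plus (F := F) (m := 4) (by norm_num)) W

theorem not_pt {g : Module.End F (Fin 4 ⊕ Fin 4 → F)} (hr : Sr g (Nat.card F ^ 4 - 1)) {t : ℕ} (ht : 1 ≤ t)
    (ht2 : t ≤ 2) {z : ↥(E (plusForm 4 F))} (hz : ∀ v, lin z v = (g ^ t) v) {y : Fin 4 ⊕ Fin 4 → F} (hy0 : y ≠ 0) :
    ((z : ↥(E (plusForm 4 F))) : P (plusForm 4 F)) ∉
      stab (good_plus (F := F) (m := 4) (by norm_num)) (Submodule.span F {y}) := by
  intro hmem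
  have h1 := apply_mem_of_mem_stab hmem (Submodule.mem_span_singleton_self y)
  obtain ⟨c, hc⟩ := Submodule.mem_span_singleton.1 h1
  have hcy : lin z y = c • y := by rw [hc]; rfl
  have hc0 : c ≠ 0 := by
    rintro rfl
    rw [zero_smul, lin_apply] at hcy
    exact hy0 ((LinearEquiv.map_eq_zero_iff _).1 hcy)
  have hpow : ∀ n : ℕ, (g ^ (t * n)) y = c ^ n • y := by
    intro n
    induction n with
    | zero => simp
    | succ n ih =>
      rw [Nat.mul_succ, add_comm, pow_add, Module.End.mul_apply, ih, map_smul, ← hz, hcy, smul_smul, pow_succ]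
  have h2 := hpow (Nat.card F - 1)
  have hcq : c ^ (Nat.card F - 1) = 1 := by
    rw [Nat.card_eq_fintype_card]
    exact FiniteField.pow_card_sub_one_eq_one c hc0
  rw [hcq, one_smul] at h2
  have h3 := hr y hy0 _ h2
  have hq : 2 ≤ Nat.card F := Finite.one_lt_card
  have h4 := Nat.le_of_dvd (Nat.mul_pos ht (by omega)) h3
  have h5 : t * (Nat.card F - 1) ≤ 2 * (Nat.card F - 1) := Nat.mul_le_mul_right _ ht2
  have h6 : Nat.card F ^ 4 = Nat.card F * Nat.card F ^ 3 := by ring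
  have h7 : 2 ^ 3 ≤ Nat.card F ^ 3 := Nat.pow_le_pow_left hq 3
  have h8 : Nat.card F * 2 ^ 3 ≤ Nat.card F * Nat.card F ^ 3 := Nat.mul_le_mul_left _ h7
  omega

theorem exists_elm : Elm F (M0 (Nat.card F)) := by
  have hq : 2 ≤ Nat.card F := Finite.one_lt_card
  have hG : _root_.Cfsg.Agent.LieClassical.OrthTrans.Good (plusForm 4 F) := good_plus (F := F) (m := 4) (by norm_num)
  have := finite_P (Q := plusForm 4 F)
  obtain ⟨g, W, hg, ho, hr, hW, hW4, hWi⟩ := exists_torus F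
  have hK : 2 ^ 4 ≤ Nat.card F ^ 4 := Nat.pow_le_pow_left hq 4
  have h7 : 7 ≤ finrank F (Fin 4 ⊕ Fin 4 → F) := by
    rw [Module.finrank_fintype_fun_eq_card, Fintype.card_sum, Fintype.card_fin]
    norm_num
  have hev : HasEV g (Nat.card F ^ 4 - 1) := hasEV_of_semi (by omega) ho hr
  have hrk : ∀ z : ↥(E (plusForm 4 F)), finrank F (LinearMap.range (lin z - 1)) ≤ 8 := fun z =>
    (Submodule.finrank_le _).trans (by
      rw [Module.finrank_fintype_fun_eq_card, Fintype.card_sum, Fintype.card_fin])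
  rcases Nat.even_or_odd (Nat.card F) with he | hodd
  · have hM : M0 (Nat.card F) = Nat.card F ^ 4 - 1 := by rw [M0, if_neg (Nat.not_odd_iff_even.2 he)]
    have hN : Odd (Nat.card F ^ 4 - 1) := Nat.Even.sub_odd (by omega) (he.pow_of_ne_zero (by norm_num)) odd_one
    obtain ⟨z, hz⟩ := exists_E' (plusForm 4 F) hG (by rw [Fintype.card_sum, Fintype.card_fin]; norm_num)
      (⇑(plusForm 4 F)) (LinearEquiv.refl F _) (fun _ => rfl) g hg hN (by rw [← ho]; exact pow_orderOf_eq_one g)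
    have hz' : ∀ v, lin z v = g v := hz
    have hlin : lin z = g := LinearMap.ext hz'
    have hoz : orderOf z = Nat.card F ^ 4 - 1 := by rw [← orderOf_lin, hlin, ho]
    rw [hM]
    refine ⟨z, by rw [orderOf_mk hG (by rwa [hoz]), hoz], fun A hA => ?_, fun y _ hy0 => ?_, W, hW, hW4, ?_⟩
    · exact orb_spec hG h7 hA hN hoz (by rw [hlin]; exact hev) (hrk z) (by omega)
    · exact not_pt hr le_rfl (by norm_num) (by intro v; rw [pow_one]; exact hz' v) hy0
    · refine mem_stab_of_map_le hG fun w hw => ?_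
      have h1 := hWi w hw
      rw [← hz'] at h1
      exact h1
  · obtain ⟨c, hc⟩ := eight_dvd hodd
    have hM : M0 (Nat.card F) = 2 * c := by
      rw [M0, if_pos hodd, hc]
      omega
    have hc0 : 0 < c := by
      rcases Nat.eq_zero_or_pos c with h | h
      · rw [h] at hc
        omega
      · exact h
    obtain ⟨z0, hz0⟩ := exists_omega (plusForm 4 F) hG.nondeg (by rw [Fintype.card_sum, Fintype.card_fin]; norm_num)
      (⇑(plusForm 4 F)) (LinearEquiv.refl F _) (fun _ => rfl) g hg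
    have hz' : ∀ v, lin (oe hG z0) v = (g ^ 2) v := fun v => by
      rw [lin_apply, oe_apply, hz0, pow_two, Module.End.mul_apply]
      rfl
    have hlin : lin (oe hG z0) = g ^ 2 := LinearMap.ext hz'
    have hoz : orderOf (oe hG z0) = 2 * (2 * c) := by
      rw [← orderOf_lin, hlin, orderOf_pow' g two_ne_zero, ho, hc]
      have h1 : (8 * c).gcd 2 = 2 := Nat.gcd_eq_right ⟨4 * c, by ring⟩
      rw [h1]
      omega
    have hneg : ∀ v, (((oe hG z0) ^ (2 * c) : ↥(E (plusForm 4 F))) : (Fin 4 ⊕ Fin 4 → F) ≃ₗ[F] (Fin 4 ⊕ Fin 4 → F)) v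
        = -v := by
      intro v
      have h1 : lin ((oe hG z0) ^ (2 * c)) = g ^ (4 * c) := by
        rw [map_pow, hlin, ← pow_mul]
        congr 1
        ring
      have h2 : (g ^ (4 * c)) ((g ^ (4 * c)) v) = v := by
        rw [← Module.End.mul_apply, ← pow_add, show 4 * c + 4 * c = Nat.card F ^ 4 - 1 by omega, ← ho,
          pow_orderOf_eq_one]
        rfl
      rw [← lin_apply, h1]
      by_contra hne
      have h3 : (g ^ (4 * c)) v + v ≠ 0 := fun h => hne (eq_neg_of_add_eq_zero_left h)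
      have h4 := hr _ h3 (4 * c) (by rw [map_add, h2, add_comm])
      have h5 := Nat.le_of_dvd (by omega) h4
      omega
    rw [hM]
    refine ⟨oe hG z0, orderOf_mk_even hG hoz hneg, fun A hA => ?_, fun y _ hy0 => ?_, W, hW, hW4, ?_⟩
    · refine orb_even hG h7 hA (even_two_mul c) (by omega) hoz hneg ?_ (hrk _)
      rw [hlin]
      refine hev.pow ?_ (by omega)
      rw [hc, Nat.gcd_eq_right ⟨4 * c, by ring⟩]
      omega
    · exact not_pt hr (by norm_num) le_rfl hz' hy0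
    · refine mem_stab_of_map_le hG fun w hw => ?_
      have h1 := hWi _ (hWi w hw)
      have h2 := hz' w
      rw [pow_two, Module.End.mul_apply] at h2
      rw [← h2] at h1
      exact h1

theorem gens {T : Type*} [Group T] [Finite T] {g x : T} {N : ℕ} (hg : orderOf g = N)
    (hx : x ∈ zpowers g ∧ N ∣ orderOf x) : g ∈ zpowers x := by
  have h1 : orderOf x = N := Nat.dvd_antisymm (by rw [← hg]; exact orderOf_dvd_of_mem_zpowers hx.1) hx.2
  exact mem_zpowers_of_order hx.1 (mem_zpowers g) (by rw [h1, hg])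

/-- **three classes of elements of order `N₀(q)`** -/
theorem th_elm {N : ℕ} (h : Elm F N) (hN : 32 * Nat.card (F ≃+* F) < N.totient) :
    Th (Cfsg.POmega F (Cfsg.quadFormPlus 4 F)) N := by
  have hG : _root_.Cfsg.Agent.LieClassical.OrthTrans.Good (plusForm 4 F) := good_plus (F := F) (m := 4) (by norm_num)
  have := finite_P (Q := plusForm 4 F)
  obtain ⟨z, ho, horb, hpt, W, hW, hW4, hzW⟩ := h
  obtain ⟨Γ, hΓ, hind⟩ := Cfsg.Agent.ClassicalGeometry.TrialityFinal.exists_index_three hG fun α x hx hx0 => by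
      rcases Cfsg.Agent.ClassicalGeometry.OrthAut3.dichotomy hG (by simp) α hx hx0 with h | h
      · exact Or.inl h
      · exact Or.inr h.2
  have hex : ∃ (τ : MulAut (P (plusForm 4 F))) (y : Fin 4 ⊕ Fin 4 → F), plusForm 4 F y = 0 ∧ y ≠ 0 ∧
      (stab hG W).map τ.toMonoidHom = stab hG (Submodule.span F {y}) := by
    obtain ⟨y, hy, hy0, rfl | rfl⟩ := isOct_of_singular hW hW4
    · obtain ⟨τ, hτ⟩ := Triality.exists_tau_xO hG
      exact ⟨τ, y, hy, hy0, hτ y hy hy0⟩
    · obtain ⟨τ, hτ⟩ := Triality.exists_tau_Ox hG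
      exact ⟨τ, y, hy, hy0, hτ y hy hy0⟩
  obtain ⟨τ, y, hy, hy0, hτ⟩ := hex
  set! S : Set (P (plusForm 4 F)) :=
    {x | x ∈ zpowers ((z : ↥(E (plusForm 4 F))) : P (plusForm 4 F)) ∧ N ∣ orderOf x} with hS; rewrite [← hS] at horb
  have hE : Ex Γ S τ⁻¹ := by
    intro x hx φ hφ a ha hφa
    -- the point
    obtain ⟨p, hp, hp0, hap⟩ := (hΓ _).1 (Γ.inv_mem ha) y hy hy0
    have h1 : (stab hG (Submodule.span F {p})).map φ⁻¹.toMonoidHom = stab hG W := by
      rw [hφa, map_mulAut_mul, ← hap, map_mulAut_inv', ← hτ, map_mulAut_inv]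
    have h2 : x ∈ stab hG W := by
      have h3 : zpowers ((z : ↥(E (plusForm 4 F))) : P (plusForm 4 F)) ≤ stab hG W := by
        rw [zpowers_le]
        exact hzW
      exact h3 hx.1
    rw [← h1] at h2
    obtain ⟨x', hx', hx''⟩ := h2
    have h4 : φ x = x' := by
      rw [← hx'']
      exact MulAut.apply_inv_self _ φ x'
    have h5 := gens ho hφ
    rw [h4] at h5
    have h6 : zpowers x' ≤ stab hG (Submodule.span F {p}) := by
      rw [zpowers_le]
      exact hx'
    exact hpt p hp hp0 (h6 h5)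
  have hcard : N.totient ≤ Nat.card S := card_gen ho
  obtain ⟨a, b, c, ha, hb, hc, h1, h2, h3⟩ := exists_three_ex (horb Γ fun α hα => (hΓ α).1 hα) hE (by
    rw [hind]
    omega)
  rw [← coe_plusForm]
  exact Th.congr (pe hG).symm ⟨a, b, c, ha.2, hb.2, hc.2, h1, h2, h3⟩

end elt

end Cfsg.Agent.H320.Der
end

-- part: H320/Der/FourN
section
/-!
# `RowS` for `PΩ⁺_8(q)`, `q ≥ 4` (helper320, S3502)
-/

set_option autoImplicit false

namespace Cfsg.Agent.H320.Der

open Cfsg Cfsg.Agent.H439.Der Cfsg.Agent.OrdDiv Cfsg.Agent.H264.GN Cfsg.Agent.H915.GN Cfsg.Agent.H436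
open Cfsg.Agent.H278.El.Asm (Kn)

section num

theorem le_gcd_totient_sq (n : ℕ) : n ≤ Nat.gcd 2 n * n.totient ^ 2 := by
  induction n using Nat.recOnPosPrimePosCoprime with
  | prime_pow p k hp hk =>
    obtain ⟨j, rfl⟩ : ∃ j, k = j + 1 := ⟨k - 1, by omega⟩
    rw [Nat.totient_prime_pow hp (by omega), Nat.add_sub_cancel]
    rcases hp.eq_two_or_odd' with rfl | ho
    · have h1 : Nat.gcd 2 (2 ^ (j + 1)) = 2 := Nat.gcd_eq_left (dvd_pow_self 2 (by omega))
      rw [h1, pow_succ, show (2 - 1 : ℕ) = 1 from rfl, mul_one, mul_comm, pow_two]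
      refine Nat.mul_le_mul_left 2 ?_
      exact Nat.le_mul_self _
    · have h1 : Nat.gcd 2 (p ^ (j + 1)) = 1 := by
        rw [← Nat.coprime_iff_gcd_eq_one, Nat.coprime_two_left]
        exact ho.pow
      have hp3 : 3 ≤ p := by
        have := hp.two_le
        obtain ⟨k, hk⟩ := ho
        omega
      rw [h1, one_mul, pow_succ, mul_pow]
      refine Nat.mul_le_mul ?_ ?_
      · rw [pow_two]
        exact Nat.le_mul_self _
      · obtain ⟨c, rfl⟩ := Nat.exists_eq_add_of_le hp3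
        rw [show 3 + c - 1 = c + 2 by omega]
        nlinarith only []
  | zero => simp
  | one => simp
  | coprime a b ha hb hab iha ihb =>
    rw [Nat.totient_mul hab, hab.gcd_mul, mul_pow]
    calc a * b ≤ (Nat.gcd 2 a * a.totient ^ 2) * (Nat.gcd 2 b * b.totient ^ 2) := Nat.mul_le_mul iha ihb
      _ = _ := by ring

theorem lt_of_sq_lt {a b : ℕ} (h : a ^ 2 < b ^ 2) : a < b := lt_of_pow_lt_pow_left₀ 2 (Nat.zero_le b) h

theorem lt81 (f : ℕ) (hf : 3 ≤ f) : 8192 * f ^ 2 + 1 < 81 ^ f := by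
  induction f, hf using Nat.le_induction with
  | base => norm_num
  | succ n hn ih =>
    have h1 : 8192 * (n + 1) ^ 2 + 1 ≤ 81 * (8192 * n ^ 2 + 1) := by nlinarith
    have h2 : 81 ^ (n + 1) = 81 * 81 ^ n := by ring
    omega

theorem lt16 (f : ℕ) (hf : 4 ≤ f) : 1024 * f ^ 2 + 1 < 16 ^ f := by
  induction f, hf using Nat.le_induction with
  | base => norm_num
  | succ n hn ih =>
    have h1 : 1024 * (n + 1) ^ 2 + 1 ≤ 16 * (1024 * n ^ 2 + 1) := by nlinarith
    have h2 : 16 ^ (n + 1) = 16 * 16 ^ n := by ring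
    omega

theorem totient_255 : Nat.totient 255 = 128 := by
  rw [show 255 = 3 * (5 * 17) from rfl, Nat.totient_mul (by norm_num), Nat.totient_mul (by norm_num),
    Nat.totient_prime (by norm_num), Nat.totient_prime (by norm_num), Nat.totient_prime (by norm_num)]

theorem totient_4095 : Nat.totient 4095 = 1728 := by
  rw [show 4095 = 3 ^ 2 * (5 * (7 * 13)) from rfl, Nat.totient_mul (by norm_num), Nat.totient_mul (by norm_num),
    Nat.totient_mul (by norm_num), Nat.totient_prime_pow (by norm_num) (by norm_num),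
    Nat.totient_prime (by norm_num), Nat.totient_prime (by norm_num), Nat.totient_prime (by norm_num)]
  norm_num

theorem totient_156 : Nat.totient 156 = 48 := by
  rw [show 156 = 2 ^ 2 * (3 * 13) from rfl, Nat.totient_mul (by norm_num), Nat.totient_mul (by norm_num),
    Nat.totient_prime_pow (by norm_num) (by norm_num),
    Nat.totient_prime (by norm_num), Nat.totient_prime (by norm_num)]
  norm_num

theorem totient_600 : Nat.totient 600 = 160 := by
  rw [show 600 = 2 ^ 3 * (3 * 5 ^ 2) from rfl, Nat.totient_mul (by norm_num), Nat.totient_mul (by norm_num),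
    Nat.totient_prime_pow (by norm_num) (by norm_num), Nat.totient_prime_pow (by norm_num) (by norm_num),
    Nat.totient_prime (by norm_num)]
  norm_num

theorem totient_1640 : Nat.totient 1640 = 640 := by
  rw [show 1640 = 2 ^ 3 * (5 * 41) from rfl, Nat.totient_mul (by norm_num), Nat.totient_mul (by norm_num),
    Nat.totient_prime_pow (by norm_num) (by norm_num),
    Nat.totient_prime (by norm_num), Nat.totient_prime (by norm_num)]
  norm_num

theorem large_M0 {p f : ℕ} (hp : p.Prime) (hf : 1 ≤ f) (hq : 4 ≤ p ^ f) : 32 * f < (M0 (p ^ f)).totient := by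
  rcases hp.eq_two_or_odd' with rfl | ho
  · have he : Even (2 ^ f) := even_two.pow_of_ne_zero (by omega)
    rw [M0, if_neg (Nat.not_odd_iff_even.2 he), ← pow_mul]
    rcases Nat.lt_or_ge f 4 with h4 | h4
    · interval_cases f
      · norm_num at hq
      · rw [show 2 ^ (2 * 4) - 1 = 255 from rfl, totient_255]
        norm_num
      · rw [show 2 ^ (3 * 4) - 1 = 4095 from rfl, totient_4095]
        norm_num
    · have h1 := le_gcd_totient_sq (2 ^ (f * 4) - 1)
      have h2 : Nat.gcd 2 (2 ^ (f * 4) - 1) = 1 := by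
        rw [← Nat.coprime_iff_gcd_eq_one, Nat.coprime_two_left]
        exact Nat.Even.sub_odd (Nat.one_le_two_pow) (even_two.pow_of_ne_zero (by omega)) odd_one
      rw [h2, one_mul] at h1
      have h3 := lt16 f h4
      have h4 : 2 ^ (f * 4) = 16 ^ f := by rw [mul_comm, pow_mul]; norm_num
      rw [h4] at h1 ⊢
      refine lt_of_sq_lt (lt_of_lt_of_le ?_ h1)
      rw [mul_pow]
      omega
  · have ho' : Odd (p ^ f) := ho.pow
    have hp3 : 3 ≤ p := by
      have := hp.two_le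
      obtain ⟨k, hk⟩ := ho
      omega
    have key : 8192 * f ^ 2 + 1 < (p ^ f) ^ 4 → 32 * f < (M0 (p ^ f)).totient := by
      intro h
      obtain ⟨c, hc⟩ := eight_dvd ho'
      have hM : M0 (p ^ f) = 2 * c := by
        rw [M0, if_pos ho', hc]
        omega
      have h1 := le_gcd_totient_sq (2 * c)
      have h2 : Nat.gcd 2 (2 * c) = 2 := Nat.gcd_mul_right_right _ _ |>.trans (by simp)
      rw [h2] at h1
      rw [hM]
      have h3 : c ≤ (2 * c).totient ^ 2 := Nat.le_of_mul_le_mul_left h1 (by norm_num)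
      refine lt_of_sq_lt (lt_of_lt_of_le ?_ h3)
      rw [mul_pow]
      omega
    rcases Nat.lt_or_ge f 3 with h3 | h3
    · interval_cases f
      · rw [pow_one] at *
        rcases Nat.lt_or_ge p 11 with h11 | h11
        · have : p = 5 ∨ p = 7 ∨ p = 9 := by
            obtain ⟨k, hk⟩ := ho
            omega
          rcases this with rfl | rfl | rfl
          · rw [show M0 5 = 156 by rw [M0, if_pos (by decide)]; norm_num, totient_156]
            norm_num
          · rw [show M0 7 = 600 by rw [M0, if_pos (by decide)]; norm_num, totient_600]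
            norm_num
          · norm_num at hp
        · apply key
          have := Nat.pow_le_pow_left h11 4
          omega
      · rcases Nat.lt_or_ge p 5 with h5 | h5
        · have : p = 3 := by
            obtain ⟨k, hk⟩ := ho
            omega
          subst this
          rw [show M0 (3 ^ 2) = 1640 by rw [M0, if_pos (by decide)]; norm_num, totient_1640]
          norm_num
        · apply key
          have h6 := Nat.pow_le_pow_left (Nat.pow_le_pow_left h5 2) 4
          omega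
    · apply key
      refine lt_of_lt_of_le (lt81 f h3) ?_
      rw [← pow_mul, mul_comm f 4, pow_mul]
      exact Nat.pow_le_pow_left (Nat.pow_le_pow_left hp3 4) f

end num

section final

variable {F : Type} [Field F] [Fintype F]

/-- **`PΩ⁺_8(q)`, `q ≥ 4`** -/
theorem rowS_oplus_four (tab : OrderTable.{0}) (hK : Kn) (hq : 4 ≤ Nat.card F) :
    RowS (Cfsg.POmega F (Cfsg.quadFormPlus 4 F)) := by
  have hfin : Finite (Cfsg.POmega F (Cfsg.quadFormPlus 4 F)) := Quotient.finite _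
  obtain ⟨p, f, hp, hf, hF, hf'⟩ := exists_pf F
  have hT : Th (Cfsg.POmega F (Cfsg.quadFormPlus 4 F)) (M0 (Nat.card F)) := by
    refine th_elm exists_elm ?_
    rw [hf', hF]
    exact large_M0 hp hf (by rw [← hF]; exact hq)
  refine RowS.of_three fun M hM => ?_
  rcases four_cl tab hK (by rw [← Nat.card_eq_fintype_card]; exact hq) hM.1 with h | h
  · exact Three.of_pgap (ntc_plus_four hq) h
  · rw [← Nat.card_eq_fintype_card] at h
    exact hT.three h

end final

end Cfsg.Agent.H320.Der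
end

-- part: H547/Der/OctQ
section
/-!
# `Ω⁺₈(2)`: subgroups of order divisible by 35 (helper547, for S3502)
-/

set_option autoImplicit false

namespace Cfsg.Agent.H547.Der.Eight

open Subgroup Cfsg Cfsg.Agent.H503.El.O8 Cfsg.Agent.H547.Der.Oc Cfsg.Agent.H439.Der Cfsg.Agent Cfsg.Agent.H970.StabNum
open Cfsg.Agent.H396

theorem not_dvd_three' {a : ℕ} (ha0 : a ≠ 0) (ha : a ∣ 174182400) (h : 3 ^ (a.factorization 3) ≡ 1 [MOD 7]) : ¬ 3 ∣ a := by
  intro h3
  have h5 : 1 ≤ a.factorization 3 := ((by norm_num : Nat.Prime 3).dvd_iff_one_le_factorization ha0).1 h3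
  have h6 : ¬ 6 ≤ a.factorization 3 := fun h6 => by
    have h7 : 3 ^ 6 ∣ a := (Nat.prime_three.pow_dvd_iff_le_factorization ha0).2 h6
    have := h7.trans ha
    norm_num at this
  generalize a.factorization 3 = v at *
  have h7 : v = 1 ∨ v = 2 ∨ v = 3 ∨ v = 4 ∨ v = 5 := by omega
  rcases h7 with rfl | rfl | rfl | rfl | rfl <;> exact absurd h (by decide)

theorem sub_bot {H : Type*} [Group H] [Finite H] {L : Subgroup H} (hLn : L.Normal) (hO : pCore 2 H = ⊥)
    {A : Subgroup L} (hA : A.Normal) {k : ℕ} (hk : Nat.card A = 2 ^ k) : A = ⊥ := by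
  have h2 : Fact (Nat.Prime 2) := ⟨Nat.prime_two⟩
  have h1 : A ≤ pCore 2 L := Lib.Cores.le_pCore hA (IsPGroup.of_card hk)
  have h3 := Lib.Cores.map_subtype_pCore (G := H) 2 (N := L) hLn
  rw [hO, inf_bot_eq, Subgroup.map_eq_bot_iff_of_injective _ L.subtype_injective] at h3
  rw [h3, le_bot_iff] at h1
  exact h1

theorem mem_of_dvd6 {n : ℕ} (h : n ∣ 6) : n ∈ [1, 2, 3, 6] := by
  have h1 := Nat.le_of_dvd (by norm_num) h
  interval_cases n <;> simp_all

/-- the orders -/
def prs8 : List (ℕ × ℕ) :=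
  [(2520, 2520), (5040, 2520), (20160, 20160), (40320, 20160), (181440, 181440), (604800, 604800), (1451520, 1451520)]

theorem surv_all : (H251.Small.surv [(7, 1, 6)] [2, 3, 5, 7] tblEight [(2, 12), (3, 5), (5, 2), (7, 1)] [5, 7]).all
      (fun h => Nat.blt 1451520 h || tblEight.all fun s => [1, 2, 3, 6].all fun c =>
        (!Nat.beq h (s * c) || !Nat.beq (s % 35) 0) || prs8.contains (h, s)) = true := by decide +kernel

set_option maxRecDepth 100000 in
/-- **subgroups of order divisible by 35 with `O₂(R) = 1`** -/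
theorem classify' {T : Type} [Group T] [Finite T] (hcT : Nat.card T = 174182400)
    (hent : ∀ P : Subgroup T, Nat.card P = 7 → Nat.card (centralizer (P : Set T)) ∣ 7 * 1 ∧
      Nat.card (normalizer (P : Set T)) ∣ 7 * 6) (hD : Data T [(7, 1, 6)] [2, 3, 5, 7] tblEight)
    {R : Subgroup T} (hR : 120 ≤ R.index) (h7 : 7 ∣ Nat.card R) (h5 : 5 ∣ Nat.card R) (hO : pCore 2 R = ⊥) :
    ∃ L : Subgroup R, L.Normal ∧ IsSimpleGroup L ∧ (¬ ∀ a b : L, a * b = b * a) ∧ (Nat.card R, Nat.card L) ∈ prs8 := by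
  obtain ⟨L, hLn, A, hAn, hs, hA7, hcard, h7L, hc6, hpow⟩ := struct hcT hent R h7
  have ha0 : Nat.card A ≠ 0 := (Nat.card_pos (α := A)).ne'
  have hRd : Nat.card R ∣ 174182400 := by rw [← hcT]; exact card_subgroup_dvd_card R
  have hadvd : Nat.card A ∣ Nat.card R := ⟨Nat.card (L ⧸ A) * L.index, by rw [hcard]; ring⟩
  have h3a := not_dvd_three' ha0 (hadvd.trans hRd) (hpow 3 Nat.prime_three)
  have h5a := not_dvd_five ha0 (hadvd.trans hRd) (by norm_num) (hpow 5 Nat.prime_five)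
  obtain ⟨k, hk⟩ : ∃ k : ℕ, Nat.card A = 2 ^ k := by
    have h1 : Nat.card A ∣ 2 ^ 12 := by
      have h2 : Nat.Coprime (Nat.card A) (3 ^ 5 * 5 ^ 2 * 7) := by
        refine Nat.Coprime.mul_right (Nat.Coprime.mul_right (Nat.Coprime.pow_right _ ?_) (Nat.Coprime.pow_right _ ?_)) ?_
        · exact Nat.coprime_comm.1 ((Nat.Prime.coprime_iff_not_dvd Nat.prime_three).2 h3a)
        · exact Nat.coprime_comm.1 ((Nat.Prime.coprime_iff_not_dvd Nat.prime_five).2 h5a)
        · exact Nat.coprime_comm.1 ((Nat.Prime.coprime_iff_not_dvd (by norm_num)).2 hA7)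
      refine h2.dvd_of_dvd_mul_right ?_
      norm_num only []
      exact hadvd.trans hRd
    obtain ⟨k, -, hk⟩ := (Nat.dvd_prime_pow Nat.prime_two).1 h1
    exact ⟨k, hk⟩
  have hAb : A = ⊥ := sub_bot hLn hO hAn hk
  subst hAb
  have e : L ≃* L ⧸ (⊥ : Subgroup L) := (QuotientGroup.quotientBot).symm
  have hLs : IsSimpleGroup L := e.isSimpleGroup
  have hLc : Nat.card (L ⧸ (⊥ : Subgroup L)) = Nat.card L := (Nat.card_congr e.toEquiv).symm
  rw [Subgroup.card_bot, one_mul, hLc] at hcard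
  rw [hLc] at h7L
  have h5L : 5 ∣ Nat.card L := by
    rw [hcard] at h5
    rcases (Nat.Prime.dvd_mul Nat.prime_five).1 h5 with h6 | h6
    · exact h6
    · have := h6.trans hc6
      norm_num at this
  have hna : ¬ ∀ a b : L, a * b = b * a := by
    intro hab
    let cg : CommGroup L := { (inferInstance : Group L) with mul_comm := hab }
    have h3 : (Nat.card L).Prime := IsSimpleGroup.prime_card (α := L)
    have h4 : 7 = Nat.card L := (Nat.prime_dvd_prime_iff_eq (by norm_num) h3).1 h7L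
    rw [← h4] at h5L
    norm_num at h5L
  have hLT : Nat.card L ∣ Nat.card T := by
    rw [hcT]
    exact (card_subgroup_dvd_card L).trans hRd
  have htbl := hD.tbl L hLs hna hLT
  have hsurv := H251.Small.mem_surv hD (l := [(2, 12), (3, 5), (5, 2), (7, 1)]) (prs := [5, 7])
    (by rw [hcT]; decide +kernel) R (by
      intro r hr
      rw [List.mem_cons, List.mem_singleton] at hr
      rcases hr with rfl | rfl
      · exact h5
      · exact h7)
  have hb : Nat.card R ≤ 1451520 := by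
    have h1 := hR
    have h2 := R.index_mul_card
    rw [hcT] at h2
    by_contra hcon
    push Not at hcon
    have h3 : 120 * 1451521 ≤ R.index * Nat.card R := Nat.mul_le_mul h1 hcon
    omega
  refine ⟨L, hLn, hLs, hna, ?_⟩
  have hc := mem_of_dvd6 hc6
  have hT := surv_all
  rw [List.all_eq_true] at hT
  have h1 := hT _ hsurv
  rw [Bool.or_eq_true, Nat.blt_eq] at h1
  rcases h1 with h1 | h1
  · (clear * - hb h1; omega)
  rw [List.all_eq_true] at h1
  have h2 := h1 _ htbl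
  rw [List.all_eq_true] at h2
  have h3 := h2 _ hc
  rw [Bool.or_eq_true, Bool.or_eq_true, Bool.not_eq_true', Bool.not_eq_true'] at h3
  rcases h3 with (h3 | h3) | h3
  · exfalso
    rw [← hcard] at h3
    rw [Nat.beq_refl] at h3
    exact Bool.noConfusion h3
  · exfalso
    have h4 : 35 ∣ Nat.card L := by
      rw [show 35 = 5 * 7 by norm_num]
      exact Nat.Coprime.mul_dvd_of_dvd_of_dvd (by norm_num) h5L h7L
    rw [Nat.mod_eq_zero_of_dvd h4] at h3
    exact absurd h3 (by decide)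
  · exact List.contains_iff_mem.1 h3

theorem classify (OT : OrdDiv.OrderTable.{0})
    (hS : ∀ (X : Type) [Group X] [Finite X] [IsSimpleGroup X], Cfsg.IsKnownSimple' X)
    {R : Subgroup T8} (hR : R ≠ ⊤) (h7 : 7 ∣ Nat.card R) (h5 : 5 ∣ Nat.card R) (hO : pCore 2 R = ⊥) :
    ∃ L : Subgroup R, L.Normal ∧ IsSimpleGroup L ∧ (¬ ∀ a b : L, a * b = b * a) ∧ (Nat.card R, Nat.card L) ∈ prs8 :=
  classify' card_t8 hent (data OT hS) (index_ge R hR) h7 h5 hO

theorem index_of {R : Subgroup T8} {L : Subgroup R} {a b : ℕ} (hR : Nat.card R = a) (hL : Nat.card L = b) :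
    b * L.index = a := by rw [← hL, ← hR]; exact L.card_mul_index

/-- `A₇` -/
theorem case2520 (OT : OrdDiv.OrderTable.{0})
    (hS : ∀ (X : Type) [Group X] [Finite X] [IsSimpleGroup X], Cfsg.IsKnownSimple' X)
    {R : Subgroup T8} {L : Subgroup R} (hLn : L.Normal) (hs : IsSimpleGroup L) (hna : ¬ ∀ a b : L, a * b = b * a)
    (h2 : L.index ∣ 2) (hL : Nat.card L = 2520) (h4096 : ¬ 4096 ∣ Nat.card R) (h243 : ¬ 243 ∣ Nat.card R) :
    ThreeT T8 R ∧ Two T8 R ∧ NoOne T8 R := by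
  have key : ∀ n : ℕ, Odd n → n ∉ [1, 2, 3, 4, 5, 6, 7] → ∀ y ∈ R, orderOf y ≠ n := by
    intro n hn hn2 y hy hyo
    have h3 : (⟨y, hy⟩ : R) ∈ L := mem_of_index h2 (by rw [Subgroup.orderOf_mk, hyo]; exact hn)
    have h4 := H251.Der.ord_2520 OT hS hna hL ⟨⟨y, hy⟩, h3⟩
    rw [Subgroup.orderOf_mk, Subgroup.orderOf_mk, hyo] at h4
    exact hn2 h4
  exact fin_nine (key 9 (by decide) (by decide)) (miss_of_order order_tz1 (key 15 (by decide) (by decide)))
    (by rw [order_tz1]; norm_num) h4096 h243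

/-- elements of order 3 of `A₈` -/
theorem type8 {x : alternatingGroup (Fin 8)} (hx : orderOf x = 3) :
    (x : Equiv.Perm (Fin 8)).cycleType = {3} ∨ (x : Equiv.Perm (Fin 8)).cycleType = {3, 3} := by
  have hx' : orderOf (x : Equiv.Perm (Fin 8)) = 3 := by rw [Subgroup.orderOf_coe, hx]
  obtain ⟨n, hn⟩ := Equiv.Perm.cycleType_prime_order (σ := (x : Equiv.Perm (Fin 8))) (by rw [hx']; exact Nat.prime_three)
  rw [hx'] at hn
  have h1 := Equiv.Perm.sum_cycleType (x : Equiv.Perm (Fin 8))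
  rw [hn, Multiset.sum_replicate, smul_eq_mul] at h1
  have h2 := Finset.card_le_univ (x : Equiv.Perm (Fin 8)).support
  rw [← h1, Fintype.card_fin] at h2
  have h3 : n = 0 ∨ n = 1 := by omega
  rcases h3 with rfl | rfl
  · left; rw [hn]; rfl
  · right; rw [hn]; rfl

theorem conj8 {x y : alternatingGroup (Fin 8)} (hx : orderOf x = 3)
    (h : (x : Equiv.Perm (Fin 8)).cycleType = (y : Equiv.Perm (Fin 8)).cycleType) : IsConj x y := by
  refine alternatingGroup.isConj_of (Equiv.Perm.isConj_iff_cycleType_eq.2 h) ?_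
  rw [← Equiv.Perm.sum_cycleType, Fintype.card_fin]
  rcases type8 hx with h1 | h1 <;> rw [h1] <;> decide

theorem alt8 {x y z : alternatingGroup (Fin 8)} (hx : orderOf x = 3) (hy : orderOf y = 3) (hz : orderOf z = 3) :
    IsConj x y ∨ IsConj x z ∨ IsConj y z := by
  rcases type8 hx with h1 | h1 <;> rcases type8 hy with h2 | h2 <;> rcases type8 hz with h3 | h3
  · exact Or.inl (conj8 hx (h1.trans h2.symm))
  · exact Or.inl (conj8 hx (h1.trans h2.symm))
  · exact Or.inr (Or.inl (conj8 hx (h1.trans h3.symm)))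
  · exact Or.inr (Or.inr (conj8 hy (h2.trans h3.symm)))
  · exact Or.inr (Or.inr (conj8 hy (h2.trans h3.symm)))
  · exact Or.inr (Or.inl (conj8 hx (h1.trans h3.symm)))
  · exact Or.inl (conj8 hx (h1.trans h2.symm))
  · exact Or.inl (conj8 hx (h1.trans h2.symm))

theorem ne_AB (φ : T8 ≃* T8) : φ (tz1 ^ 5) ≠ b3 := fun hφ => by
  have h6 := octT.three_five (a := b3) (y := φ (tz1 ^ 3)) order_b3
    (by rw [MulEquiv.orderOf_eq, order_tz1_3]) (by
      rw [← hφ, ← map_mul, ← map_mul, ← pow_add, ← pow_add])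
  rw [card_b3] at h6
  rcases h6 with h6 | h6
  · exact absurd h6.2 (by norm_num)
  · exact absurd h6.2.1 (by norm_num)

theorem ne_AC (φ : T8 ≃* T8) : φ (tz1 ^ 5) ≠ tw9 ^ 3 := fun hφ => by
  have h6 := octT.three_five (a := tw9 ^ 3) (y := φ (tz1 ^ 3)) order_tw9_3
    (by rw [MulEquiv.orderOf_eq, order_tz1_3]) (by
      rw [← hφ, ← map_mul, ← map_mul, ← pow_add, ← pow_add])
  rw [(octT.cube_nine order_tw9).1] at h6
  rcases h6 with h6 | h6
  · exact absurd h6.2 (by norm_num)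
  · exact absurd h6.2.1 (by norm_num)

theorem ne_BC (φ : T8 ≃* T8) : φ b3 ≠ tw9 ^ 3 := fun hφ => by
  have h4 := (octT.cube_nine (y := φ.symm tw9) (by rw [MulEquiv.orderOf_eq, order_tw9])).1
  rw [← map_pow, ← hφ, φ.symm_apply_apply, card_b3] at h4
  norm_num at h4

theorem conj_aux {T K : Type*} [Group T] [Group K] {R : Subgroup T} {L : Subgroup R} (e : L ≃* K) {x y : T} (hx : x ∈ R)
    (hxL : (⟨x, hx⟩ : R) ∈ L) (hy : y ∈ R) (hyL : (⟨y, hy⟩ : R) ∈ L) (h : IsConj (e ⟨⟨x, hx⟩, hxL⟩) (e ⟨⟨y, hy⟩, hyL⟩)) :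
    ∃ g : T, g * x * g⁻¹ = y := by
  obtain ⟨c, hc⟩ := isConj_iff.1 h
  refine ⟨((e.symm c : R) : T), ?_⟩
  have h1 : e.symm c * (⟨⟨x, hx⟩, hxL⟩ : L) * (e.symm c)⁻¹ = ⟨⟨y, hy⟩, hyL⟩ := by
    apply e.injective
    rw [map_mul, map_mul, map_inv, e.apply_symm_apply, hc]
  exact congrArg (fun z : L => ((z : R) : T)) h1

theorem conj_aut {x y : T8} {φ ψ : T8 ≃* T8} {g : T8} (h : g * φ x * g⁻¹ = ψ y) : ∃ χ : T8 ≃* T8, χ x = y :=
  ⟨(φ.trans (MulAut.conj g)).trans ψ.symm, by
    show ψ.symm (g * φ x * g⁻¹) = y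
    rw [h, ψ.symm_apply_apply]⟩

/-- `A₈` has only two classes of elements of order 3 -/
theorem three_classes {R : Subgroup T8} {L : Subgroup R} (hLn : L.Normal) (h2 : L.index ∣ 2)
    (e : L ≃* alternatingGroup (Fin 8)) :
    (∀ φ : T8 ≃* T8, φ (tz1 ^ 5) ∉ R) ∨ (∀ φ : T8 ≃* T8, φ b3 ∉ R) ∨ (∀ φ : T8 ≃* T8, φ (tw9 ^ 3) ∉ R) := by
  by_contra hcon
  push Not at hcon
  obtain ⟨⟨φ, hφ⟩, ⟨ψ, hψ⟩, ⟨χ, hχ⟩⟩ := hcon
  have hodd : Odd 3 := by decide
  have o1 : orderOf (φ (tz1 ^ 5)) = 3 := by rw [MulEquiv.orderOf_eq, order_tz1_5]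
  have o2 : orderOf (ψ b3) = 3 := by rw [MulEquiv.orderOf_eq, order_b3]
  have o3 : orderOf (χ (tw9 ^ 3)) = 3 := by rw [MulEquiv.orderOf_eq, order_tw9_3]
  have m1 : (⟨_, hφ⟩ : R) ∈ L := mem_of_index h2 (by rw [Subgroup.orderOf_mk, o1]; exact hodd)
  have m2 : (⟨_, hψ⟩ : R) ∈ L := mem_of_index h2 (by rw [Subgroup.orderOf_mk, o2]; exact hodd)
  have m3 : (⟨_, hχ⟩ : R) ∈ L := mem_of_index h2 (by rw [Subgroup.orderOf_mk, o3]; exact hodd)
  rcases alt8 (x := e ⟨_, m1⟩) (y := e ⟨_, m2⟩) (z := e ⟨_, m3⟩)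
    (by rw [MulEquiv.orderOf_eq, Subgroup.orderOf_mk, Subgroup.orderOf_mk, o1])
    (by rw [MulEquiv.orderOf_eq, Subgroup.orderOf_mk, Subgroup.orderOf_mk, o2])
    (by rw [MulEquiv.orderOf_eq, Subgroup.orderOf_mk, Subgroup.orderOf_mk, o3]) with h | h | h
  · obtain ⟨g, hg⟩ := conj_aux e _ _ _ _ h
    obtain ⟨ω, hω⟩ := conj_aut hg
    exact ne_AB ω hω
  · obtain ⟨g, hg⟩ := conj_aux e _ _ _ _ h
    obtain ⟨ω, hω⟩ := conj_aut hg
    exact ne_AC ω hω
  · obtain ⟨g, hg⟩ := conj_aux e _ _ _ _ h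
    obtain ⟨ω, hω⟩ := conj_aut hg
    exact ne_BC ω hω

set_option maxRecDepth 100000 in
/-- the simple groups of order 20160 -/
theorem iso_20160 (OT : OrdDiv.OrderTable.{0})
    (hS : ∀ (X : Type) [Group X] [Finite X] [IsSimpleGroup X], Cfsg.IsKnownSimple' X)
    {S : Type} [Group S] [Finite S] [IsSimpleGroup S] (hna : ¬ ∀ x y : S, x * y = y * x) (h : Nat.card S = 20160) :
    Nonempty (S ≃* alternatingGroup (Fin 8)) ∨ ∀ x : S, orderOf x ≠ 15 := by
  obtain ⟨g, hg, hr⟩ := OrdDiv.exists_real_filter OT (hS S) hna (l := [(2, 6), (3, 2), (5, 1), (7, 1)])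
    (N := 20160) (by decide +kernel) (by rw [h]) (fun o => Nat.beq o 20160) (by rw [h]; rfl)
  rw [show ((OrdDiv.cands [(2, 6), (3, 2), (5, 1), (7, 1)] 20160).filter fun g => Nat.beq (OrdDiv.ordN g) 20160) =
    [.alt 8, .psl 4 2, .psl 3 4] by decide +kernel] at hg
  simp only [List.mem_cons, List.not_mem_nil, or_false] at hg
  rcases hg with rfl | rfl | rfl
  · exact Or.inl hr
  · obtain ⟨F, _, _, hF, ⟨e⟩⟩ := hr
    obtain ⟨f⟩ := Cfsg.Agent.S0256.result (F := F) hF
    exact Or.inl ⟨e.trans f⟩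
  · obtain ⟨F, _, _, hF, ⟨e⟩⟩ := hr
    right
    intro x hx
    have := H251.Der.mem_of_equiv e (H251.Der.l34 hF) x
    rw [hx] at this
    exact absurd this (by decide)

/-- `A₈`, `L₃(4)` -/
theorem case20160 (OT : OrdDiv.OrderTable.{0})
    (hS : ∀ (X : Type) [Group X] [Finite X] [IsSimpleGroup X], Cfsg.IsKnownSimple' X)
    {R : Subgroup T8} {L : Subgroup R} (hLn : L.Normal) (hs : IsSimpleGroup L) (hna : ¬ ∀ a b : L, a * b = b * a)
    (h2 : L.index ∣ 2) (hL : Nat.card L = 20160) (h4096 : ¬ 4096 ∣ Nat.card R) (h243 : ¬ 243 ∣ Nat.card R) :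
    Three T8 R ∨ (ThreeT T8 R ∧ Two T8 R ∧ NoOne T8 R) := by
  have h9 : ∀ y ∈ R, orderOf y ≠ 9 := by
    intro y hy hyo
    have h3 : (⟨y, hy⟩ : R) ∈ L := mem_of_index h2 (by rw [Subgroup.orderOf_mk, hyo]; decide)
    have h4 := H251.Der.ord_20160 OT hS hna hL ⟨⟨y, hy⟩, h3⟩
    rw [Subgroup.orderOf_mk, Subgroup.orderOf_mk, hyo] at h4
    exact absurd h4 (by decide)
  rcases iso_20160 OT hS hna hL with ⟨⟨e⟩⟩ | h
  · rcases three_classes hLn h2 e with h | h | h
    · exact Or.inr (fin_nine h9 h (by rw [order_tz1_5]; norm_num) h4096 h243)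
    · exact Or.inr (fin_nine h9 h (by rw [order_b3]; norm_num) h4096 h243)
    · exact Or.inl (L3C h)
  · refine Or.inr (fin_nine h9 (miss_of_order order_tz1 fun y hy hyo => ?_) (by rw [order_tz1]; norm_num) h4096 h243)
    have h3 : (⟨y, hy⟩ : R) ∈ L := mem_of_index h2 (by rw [Subgroup.orderOf_mk, hyo]; decide)
    exact h ⟨⟨y, hy⟩, h3⟩ (by rw [Subgroup.orderOf_mk, Subgroup.orderOf_mk, hyo])

theorem nine_sub' : ∀ x ∈ H380.AltSpec.T 9 9, x.2 = true → x.1 ≠ 8 := by decide +kernel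

theorem alt_nine8 (x : alternatingGroup (Fin 9)) : orderOf x ≠ 8 :=
  nine_sub' _ (H380.AltSpec.orderOf_mem_T x) rfl

set_option maxRecDepth 100000 in
/-- `A₉` has no elements of order 8 -/
theorem case181440 (OT : OrdDiv.OrderTable.{0})
    (hS : ∀ (X : Type) [Group X] [Finite X] [IsSimpleGroup X], Cfsg.IsKnownSimple' X)
    {S : Type} [Group S] [Finite S] [IsSimpleGroup S] (hna : ¬ ∀ x y : S, x * y = y * x) (h : Nat.card S = 181440)
    (x : S) : orderOf x ≠ 8 := by
  obtain ⟨g, hg, hr⟩ := OrdDiv.exists_real_filter OT (hS S) hna (l := [(2, 6), (3, 4), (5, 1), (7, 1)])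
    (N := 181440) (by decide +kernel) (by rw [h]) (fun o => Nat.beq o 181440) (by rw [h]; rfl)
  rw [show ((OrdDiv.cands [(2, 6), (3, 4), (5, 1), (7, 1)] 181440).filter fun g => Nat.beq (OrdDiv.ordN g) 181440) =
    [.alt 9] by decide +kernel] at hg
  simp only [List.mem_cons, List.not_mem_nil, or_false] at hg
  subst hg
  obtain ⟨e⟩ := hr
  rw [← MulEquiv.orderOf_eq e x]
  exact alt_nine8 _

/-- simple groups and subgroups of index 8 -/
theorem no_index_eight {S : Type*} [Group S] [Finite S] (hs : IsSimpleGroup S) (h : Nat.card S = 1451520) {H : Subgroup S}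
    (hH : H.index = 8) : False := by
  have h1 : H ≠ ⊤ := by
    intro h2
    rw [h2, Subgroup.index_top] at hH
    norm_num at hH
  have h2 : H.normalCore = ⊥ := by
    rcases hs.eq_bot_or_eq_top_of_normal H.normalCore inferInstance with h3 | h3
    · exact h3
    · exact absurd (top_le_iff.1 (h3 ▸ H.normalCore_le)) h1
  have h3 : H.normalCore.index ∣ (H.index).factorial := by
    rw [normalCore_eq_ker, index_ker, index_eq_card, ← Nat.card_perm]
    exact card_subgroup_dvd_card (MulAction.toPermHom S (S ⧸ H)).range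
  rw [h2, Subgroup.index_bot, h, hH] at h3
  exact absurd (Nat.le_of_dvd (by decide) h3) (by decide)

end Cfsg.Agent.H547.Der.Eight
end

-- part: H547/Der/SixFour
section
/-!
# `Sp₆(2)`: squares of elements of order 4 (helper547, for S3502)
-/

set_option autoImplicit false

namespace Cfsg.Agent.H547.Der.Six

open Subgroup Cfsg Cfsg.Agent Cfsg.Agent.H547.Der.Oc

section abs

variable {G V : Type*} [Group G] [AddCommGroup V] [DistribMulAction G V]

theorem card_fx_cm [Finite V] (g : G) : Nat.card (fx V g) * Nat.card (cm V g) = Nat.card V ∨ ¬ ∀ v : V, v + v = 0 := by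
  by_cases h2 : ∀ v : V, v + v = 0
  · left
    have h1 : (cmHom V g).ker = fx V g := by
      ext v
      rw [AddMonoidHom.mem_ker, mem_fx]
      show g • v + v = 0 ↔ g • v = v
      constructor
      · intro h
        have h3 := h2 v
        have h4 : g • v = -v := eq_neg_of_add_eq_zero_left h
        rw [h4]
        exact (eq_neg_of_add_eq_zero_left h3).symm
      · intro h
        rw [h]
        exact h2 v
    rw [← h1]
    show Nat.card (cmHom V g).ker * Nat.card (cmHom V g).range = _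
    rw [← AddSubgroup.index_ker, AddSubgroup.card_mul_index]
  · exact Or.inr h2

/-- the fixed space of the square of an element of order 4 is not totally isotropic -/
theorem exists_hyp [Finite V] (h2 : ∀ v : V, v + v = 0) (h64 : Nat.card V = 64) (B : V → V → ZMod 2)
    (hiso : ∀ R : AddSubgroup V, (∀ u ∈ R, ∀ w ∈ R, B u w = 0) → Nat.card R ≤ 8) {g : G} (hg : g ^ 4 = 1) :
    ∃ e ∈ fx V (g ^ 2), ∃ f ∈ fx V (g ^ 2), B e f ≠ 0 := by
  by_contra hcon
  push Not at hcon
  have hle := hiso (fx V (g ^ 2)) hcon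
  have hneg : ∀ v : V, -v = v := fun v => neg_eq_of_add_eq_zero_left (h2 v)
  have hz : ∀ u v : V, u + v = 0 → u = v := fun u v h => by
    have h3 := eq_neg_of_add_eq_zero_left h
    rwa [hneg] at h3
  have c1 := (card_fx_cm (V := V) (g ^ 2)).resolve_right fun h => h h2
  have c2 := (card_fx_cm (V := V) g).resolve_right fun h => h h2
  rw [h64] at c1 c2
  -- `N₂ = N₁ ∘ N₁`
  have hN : ∀ v : V, g ^ 2 • v + v = g • (g • v + v) + (g • v + v) := by
    intro v
    have h3 : g ^ 2 • v = g • (g • v) := by rw [pow_two, mul_smul]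
    rw [smul_add, h3]
    have h4 := h2 (g • v)
    calc g • (g • v) + v = g • (g • v) + 0 + v := by rw [add_zero]
      _ = g • (g • v) + (g • v + g • v) + v := by rw [h4]
      _ = _ := by abel
  have h3 : cm V (g ^ 2) ≤ fx V (g ^ 2) := by
    intro v hv
    obtain ⟨w, hw⟩ := mem_cm.1 hv
    rw [mem_fx, ← hw, smul_add]
    have h4 : g ^ 2 • (g ^ 2 • w) = w := by
      rw [← mul_smul, ← pow_add, hg, one_smul]
    rw [h4, add_comm]
  have h4 : Nat.card (cm V (g ^ 2)) ≤ Nat.card (fx V (g ^ 2)) :=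
    Nat.card_le_card_of_injective _ (AddSubgroup.inclusion_injective h3)
  have h5 : Nat.card (fx V (g ^ 2)) = 8 ∧ Nat.card (cm V (g ^ 2)) = 8 := by
    have h6 : Nat.card (fx V (g ^ 2)) * Nat.card (cm V (g ^ 2)) ≤ 8 * Nat.card (cm V (g ^ 2)) :=
      Nat.mul_le_mul_right _ hle
    rw [c1] at h6
    have h7 : 8 ≤ Nat.card (cm V (g ^ 2)) := by omega
    constructor <;> omega
  have h6 : cm V (g ^ 2) = fx V (g ^ 2) := AddSubgroup.eq_of_le_of_card_ge h3 (by rw [h5.1, h5.2])
  have h7 : fx V g ≤ cm V g := by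
    intro v hv
    have h8 : v ∈ fx V (g ^ 2) := by
      rw [mem_fx] at hv ⊢
      rw [pow_two, mul_smul, hv, hv]
    rw [← h6] at h8
    obtain ⟨w, hw⟩ := mem_cm.1 h8
    rw [hN] at hw
    exact mem_cm.2 ⟨_, hw⟩
  -- the restriction
  let f : cm V g →+ V := (cmHom V g).comp (cm V g).subtype
  have h8 : Nat.card f.ker = Nat.card (fx V g) := by
    refine Nat.card_congr ⟨fun v => ⟨v.1.1, ?_⟩, fun v => ⟨⟨v.1, h7 v.2⟩, ?_⟩, fun v => rfl, fun v => rfl⟩
    · have h9 : g • (v.1.1 : V) + v.1.1 = 0 := v.2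
      exact hz _ _ h9
    · show g • (v.1 : V) + v.1 = 0
      have h9 : g • (v.1 : V) = v.1 := v.2
      rw [h9]
      exact h2 _
  have h9 : f.range = cm V (g ^ 2) := by
    ext v
    constructor
    · rintro ⟨⟨w, hw⟩, rfl⟩
      obtain ⟨x, hx⟩ := mem_cm.1 hw
      refine mem_cm.2 ⟨x, ?_⟩
      rw [hN, hx]
      rfl
    · intro hv
      obtain ⟨x, hx⟩ := mem_cm.1 hv
      refine ⟨⟨g • x + x, mem_cm.2 ⟨x, rfl⟩⟩, ?_⟩
      rw [← hx, hN]
      rfl
  have h10 : Nat.card f.ker * Nat.card f.range = Nat.card (cm V g) := by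
    rw [← AddSubgroup.index_ker, AddSubgroup.card_mul_index]
  rw [h8, h9, h5.2] at h10
  rw [← h10] at c2
  have h11 : Nat.card (fx V g) * Nat.card (fx V g) = 8 := by
    have h12 : Nat.card (fx V g) * (Nat.card (fx V g) * 8) = (Nat.card (fx V g) * Nat.card (fx V g)) * 8 := by ring
    omega
  have h12 : Nat.card (fx V g) ≤ 8 := by
    by_contra h
    push Not at h
    have := Nat.mul_le_mul h.le h.le
    omega
  generalize Nat.card (fx V g) = n at *
  interval_cases n <;> omega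

variable (τ : V → G) (B : V → V → ZMod 2)

/-- transvections -/
structure Tv : Prop where
  fin : Finite V
  two : ∀ v : V, v + v = 0
  add : ∀ u v w, B (u + v) w = B u w + B v w
  add' : ∀ u v w, B u (v + w) = B u v + B u w
  symm : ∀ u v, B u v = B v u
  self : ∀ u, B u u = 0
  nd : ∀ u, u ≠ 0 → ∃ v, B u v = 1
  inv : ∀ (g : G) u v, B (g • u) (g • v) = B u v
  faith : ∀ g h : G, (∀ v : V, g • v = h • v) → g = h
  tv0 : ∀ u v, B v u = 0 → τ u • v = v
  tv1 : ∀ u v, B v u = 1 → τ u • v = v + u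

variable {τ B}

theorem z01 (a : ZMod 2) : a = 0 ∨ a = 1 := by revert a; decide

namespace Tv

variable (A : Tv τ B)

include A

theorem conj (k : G) (u : V) : k * τ u * k⁻¹ = τ (k • u) := by
  refine A.faith _ _ fun v => ?_
  rw [mul_smul, mul_smul]
  have h1 : B (k⁻¹ • v) u = B v (k • u) := by
    rw [← A.inv k, smul_inv_smul]
  rcases z01 (B v (k • u)) with h | h
  · rw [A.tv0 _ _ h, A.tv0 _ _ (h1.trans h), smul_inv_smul]
  · rw [A.tv1 _ _ h, A.tv1 _ _ (h1.trans h), smul_add, smul_inv_smul]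

theorem comm {k : G} {u : V} (h : k • u = u) : k * τ u = τ u * k := by
  have h1 := A.conj k u
  rw [h] at h1
  exact mul_inv_eq_iff_eq_mul.1 h1

theorem sq (u : V) : τ u * τ u = 1 := by
  refine A.faith _ _ fun v => ?_
  rw [mul_smul, one_smul]
  rcases z01 (B v u) with h | h
  · rw [A.tv0 _ _ h, A.tv0 _ _ h]
  · rw [A.tv1 _ _ h, A.tv1 _ _ (by rw [A.add, h, A.self, add_zero]), add_assoc, A.two, add_zero]

theorem step {u v : V} (h : B u v = 1) : τ (u + v) • u = v := by
  rw [A.tv1 _ _ (by rw [A.add', A.self, h, zero_add]), ← add_assoc, A.two, zero_add]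

theorem trans1 {e e' : V} (he : e ≠ 0) (he' : e' ≠ 0) : ∃ k : G, k • e = e' := by
  have key : ∀ u v : V, B u v = 1 → ∃ k : G, k • u = v := fun u v h => ⟨_, A.step h⟩
  rcases z01 (B e e') with h | h
  · obtain ⟨w, hw1, hw2⟩ : ∃ w, B e w = 1 ∧ B e' w = 1 := by
      obtain ⟨w1, h1⟩ := A.nd e he
      obtain ⟨w2, h2⟩ := A.nd e' he'
      rcases z01 (B e' w1) with h3 | h3
      · rcases z01 (B e w2) with h4 | h4
        · exact ⟨w1 + w2, by rw [A.add', h1, h4, add_zero], by rw [A.add', h3, h2, zero_add]⟩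
        · exact ⟨w2, h4, h2⟩
      · exact ⟨w1, h1, h3⟩
    obtain ⟨k1, hk1⟩ := key _ _ hw1
    obtain ⟨k2, hk2⟩ := key w e' (by rw [A.symm]; exact hw2)
    exact ⟨k2 * k1, by rw [mul_smul, hk1, hk2]⟩
  · exact key _ _ h

theorem trans2 {e f f' : V} (h1 : B e f = 1) (h2 : B e f' = 1) : ∃ k : G, k • e = e ∧ k • f = f' := by
  rcases z01 (B f f') with h | h
  · refine ⟨τ (f + e + f') * τ e, ?_, ?_⟩
    · rw [mul_smul, A.tv0 _ _ (A.self e), A.tv0]
      rw [A.add', A.add', h1, h2, A.self, add_zero]; rfl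
    · rw [mul_smul, A.tv1 e f (by rw [A.symm]; exact h1)]
      exact A.step (by rw [A.add, h, h2, zero_add])
  · refine ⟨τ (f + f'), ?_, A.step h⟩
    rw [A.tv0]
    rw [A.add', h1, h2]; rfl

theorem trans {e f e' f' : V} (h1 : B e f = 1) (h2 : B e' f' = 1) : ∃ k : G, k • e = e' ∧ k • f = f' := by
  have hne : ∀ {u v : V}, B u v = 1 → u ≠ 0 := by
    rintro u v h rfl
    have h3 := A.add (0 : V) 0 v
    rw [add_zero, h] at h3
    exact absurd h3 (by decide)
  obtain ⟨k1, hk1⟩ := A.trans1 (hne h1) (hne h2)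
  obtain ⟨k2, hk2, hk3⟩ := A.trans2 (e := e') (f := k1 • f) (f' := f') (by rw [← hk1, A.inv]; exact h1) h2
  exact ⟨k2 * k1, by rw [mul_smul, hk1, hk2], by rw [mul_smul, hk3]⟩

theorem cube {e f : V} (h : B e f = 1) : orderOf (τ e * τ f) = 3 := by
  have h3 : Fact (Nat.Prime 3) := ⟨Nat.prime_three⟩
  have hfe : B f e = 1 := by rw [A.symm]; exact h
  refine orderOf_eq_prime ?_ fun h1 => ?_
  · have h4 : τ e * τ f * (τ e)⁻¹ = τ f * τ e * (τ f)⁻¹ := by
      rw [A.conj, A.conj, A.tv1 _ _ hfe, A.tv1 _ _ h, add_comm]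
    have hi : ∀ u, (τ u)⁻¹ = τ u := fun u => inv_eq_of_mul_eq_one_left (A.sq u)
    rw [hi, hi] at h4
    calc (τ e * τ f) ^ 3 = (τ e * τ f * τ e) * (τ f * τ e * τ f) := by rw [pow_succ, pow_two]; group
      _ = (τ f * τ e * τ f) * (τ f * τ e * τ f) := by rw [h4]
      _ = τ f * τ e * (τ f * τ f) * τ e * τ f := by group
      _ = 1 := by rw [A.sq, mul_one, mul_assoc (τ f), A.sq, mul_one, A.sq]
  · have h5 : (τ e * τ f) • e = f := by
      rw [mul_smul, A.tv1 _ _ h, A.tv1 _ _ (by rw [A.add, A.self, hfe, zero_add]), add_comm e f, add_assoc, A.two, add_zero]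
    rw [h1, one_smul] at h5
    rw [h5, A.self] at h
    exact absurd h (by decide)

/-- the conclusion -/
theorem four (h64 : Nat.card V = 64)
    (hiso : ∀ R : AddSubgroup V, (∀ u ∈ R, ∀ w ∈ R, B u w = 0) → Nat.card R ≤ 8) {y0 : G} (hy0 : orderOf y0 = 5)
    {e0 f0 : V} (h0 : B e0 f0 = 1) (he0 : y0 • e0 = e0) (hf0 : y0 • f0 = f0) {g : G} (hg : orderOf g = 4) :
    ∃ a y : G, orderOf a = 3 ∧ orderOf y = 5 ∧ a * y = y * a ∧ a * g ^ 2 = g ^ 2 * a := by
  have := A.fin
  obtain ⟨e, he, f, hf, hef⟩ := exists_hyp A.two h64 B hiso (g := g) (by rw [← hg, pow_orderOf_eq_one])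
  have hef1 : B e f = 1 := (z01 _).resolve_left hef
  obtain ⟨k, hk1, hk2⟩ := A.trans h0 hef1
  have hye : (k * y0 * k⁻¹) • e = e := by
    rw [mul_smul, mul_smul, ← hk1, inv_smul_smul, he0]
  have hyf : (k * y0 * k⁻¹) • f = f := by
    rw [mul_smul, mul_smul, ← hk2, inv_smul_smul, hf0]
  have c : ∀ t : G, t • e = e → t • f = f → τ e * τ f * t = t * (τ e * τ f) := by
    intro t h1 h2
    rw [mul_assoc, ← A.comm h2, ← mul_assoc, ← A.comm h1, mul_assoc]
  exact ⟨τ e * τ f, k * y0 * k⁻¹, A.cube hef1, by rw [H439.Der.orderOf_conj, hy0], c _ hye hyf, c _ he hf⟩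

end Tv

end abs

/-! ### the group `Sp₆(2)` -/

/-- the space -/
def U6 : Type := I6 → ZMod 2

instance instAddU6 : AddCommGroup U6 := inferInstanceAs (AddCommGroup (I6 → ZMod 2))
instance instModU6 : Module (ZMod 2) U6 := inferInstanceAs (Module (ZMod 2) (I6 → ZMod 2))
instance instFinU6 : Finite U6 := inferInstanceAs (Finite (I6 → ZMod 2))

/-- matrix times vector -/
def mu (A : M6) (v : U6) : U6 := Matrix.mulVec A (show I6 → ZMod 2 from v)

/-- the form -/
def bl (u v : U6) : ZMod 2 := bil u v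

instance instActU6 : DistribMulAction G6 U6 where
  smul g v := mu (g : M6) v
  one_smul v := Matrix.one_mulVec (show I6 → ZMod 2 from v)
  mul_smul g h v := (Matrix.mulVec_mulVec (show I6 → ZMod 2 from v) (g : M6) (h : M6)).symm
  smul_zero g := Matrix.mulVec_zero (g : M6)
  smul_add g u v := Matrix.mulVec_add (g : M6) (show I6 → ZMod 2 from u) v

instance instCommU6 : SMulCommClass G6 (ZMod 2) U6 where
  smul_comm g c v := Matrix.mulVec_smul (g : M6) c (show I6 → ZMod 2 from v)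

theorem bl_add (u v w : U6) : bl (u + v) w = bl u w + bl v w := by
  have hadd : ∀ i, (u + v) i = u i + v i := fun _ => rfl
  simp only [bl, bil, hadd]
  ring

theorem bl_symm (u v : U6) : bl u v = bl v u := by
  simp only [bl, bil]
  ring

theorem bl_add' (u v w : U6) : bl u (v + w) = bl u v + bl u w := by
  rw [bl_symm, bl_add, bl_symm v, bl_symm w]

theorem bl_self (u : U6) : bl u u = 0 := by
  have h : ∀ a b : ZMod 2, a * b + b * a = 0 := by decide
  simp only [bl, bil, h]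
  rfl

theorem bl_inv (g : G6) (u v : U6) : bl (g • u) (g • v) = bl u v := bil_smul g u v

private noncomputable def _root_.Cfsg.Agent.LsF.f105412_7 : {f // @Cfsg.Agent.H547.Der.Six.bil = f} := ⟨_, by first | (delta Cfsg.Agent.H547.Der.Six.bil; rewrite [Cfsg.Agent.LsF.zadd_pat, Cfsg.Agent.LsF.zmul_pat]; exact rfl) | exact rfl⟩
private noncomputable def _root_.Cfsg.Agent.LsF.f105412_8 : {f // @Cfsg.Agent.H547.Der.Six.dec = f} := ⟨_, by first | (delta Cfsg.Agent.H547.Der.Six.dec; rewrite [Cfsg.Agent.LsF.ndiv_pat, Cfsg.Agent.LsF.nmod_pat, Cfsg.Agent.LsF.zcast_pat, Cfsg.Agent.LsF.vecCons_eq]; exact rfl) | exact rfl⟩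
private noncomputable def _root_.Cfsg.Agent.LsF.f105412_9 : {f // @Cfsg.Agent.H547.Der.Six.decEqP6._aux_1 = f} := ⟨_, by first | (delta Cfsg.Agent.H547.Der.Six.decEqP6._aux_1; rewrite [Cfsg.Agent.LsF.dFinEq_eq]; exact rfl) | exact rfl⟩
private noncomputable def _root_.Cfsg.Agent.LsF.f105412_10 : {f // @Cfsg.Agent.H547.Der.Six.decEqP6 = f} := ⟨_, by first | (delta Cfsg.Agent.H547.Der.Six.decEqP6; rewrite [Cfsg.Agent.LsF.f105412_9.2]; exact rfl) | exact rfl⟩
set_option maxRecDepth 100000 in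
theorem bil_nd : ∀ u : P6, u ≠ o6 → ∃ v : P6, bil (dec u) (dec v) = 1 := by (refine of_decide_eq_true ?_; (try (rewrite [Cfsg.Agent.LsF.f105412_7.2, Cfsg.Agent.LsF.f105412_8.2, Cfsg.Agent.LsF.f105412_10.2, Cfsg.Agent.LsF.zdecEq_eq, Cfsg.Agent.LsF.dForall_eq, Cfsg.Agent.LsF.dExists_eq, Cfsg.Agent.LsF.dNot_eq, Cfsg.Agent.LsF.dAllP_eq, Cfsg.Agent.LsF.decide_eq])); decide +kernel)

theorem bl_nd (u : U6) (hu : u ≠ 0) : ∃ v, bl u v = 1 := by
  obtain ⟨v, hv⟩ := bil_nd (enc u) (fun h => hu (by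
    have h1 := dec_enc u
    rw [h, dec_o6] at h1
    exact h1.symm))
  have h2 : dec (enc (show V6 from u)) = (show V6 from u) := dec_enc _
  exact ⟨dec v, (congrArg (fun w => bil w (dec v)) h2).symm.trans hv⟩

theorem frm6 : H686.SqGen.Frm (ZMod 2) G6 (V := U6) bl where
  add := bl_add
  smul c u w := by
    have hs : ∀ i, (c • u) i = c * u i := fun _ => rfl
    simp only [bl, bil, hs]
    ring
  refl u v h := by rw [bl_symm]; exact h
  sub_right u v w := by
    have hs : ∀ i, (v - w) i = v i - w i := fun _ => rfl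
    simp only [bl, bil, hs]
    ring
  inv := bl_inv
  nondeg u h := by
    by_contra hu
    obtain ⟨v, hv⟩ := bl_nd u hu
    rw [h v] at hv
    exact absurd hv (by decide)

theorem card_U6 : Nat.card U6 = 64 := by
  have h : Nat.card U6 = Nat.card (I6 → ZMod 2) := rfl
  rw [h, Nat.card_eq_fintype_card, Fintype.card_fun, ZMod.card, Fintype.card_sum, Fintype.card_fin]
  norm_num

theorem iso_le6 (R : AddSubgroup U6) (hR : ∀ u ∈ R, ∀ w ∈ R, bl u w = 0) : Nat.card R ≤ 8 := by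
  have h1 := H686.SqGen.card_isotropic_le frm6 (R := AddSubgroup.toZModSubmodule 2 R) (fun v hv w hw => hR v hv w hw)
  have h3 : Nat.card (AddSubgroup.toZModSubmodule 2 R) = Nat.card R := rfl
  rw [card_U6, h3] at h1
  by_contra hcon
  push Not at hcon
  have h4 := Nat.pow_le_pow_left (show 9 ≤ Nat.card R from hcon) 2
  omega

/-- the transvection matrix -/
def tvm (u : V6) : M6 := 1 + Matrix.vecMulVec u ((Matrix.J (Fin 3) (ZMod 2)).mulVec u)

theorem tvm_sp (u : V6) : tvm u * Matrix.J (Fin 3) (ZMod 2) * (tvm u).transpose = Matrix.J (Fin 3) (ZMod 2) := by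
  have hJ : (Matrix.J (Fin 3) (ZMod 2)).transpose = Matrix.J (Fin 3) (ZMod 2) := by decide +kernel
  have hJJ : Matrix.J (Fin 3) (ZMod 2) * Matrix.J (Fin 3) (ZMod 2) = 1 := by decide +kernel
  have h0 : u ⬝ᵥ (Matrix.J (Fin 3) (ZMod 2)).mulVec u = 0 := (bil_eq u u).symm.trans (bl_self u)
  have h1 : (Matrix.J (Fin 3) (ZMod 2)).mulVec ((Matrix.J (Fin 3) (ZMod 2)).mulVec u) = u := by
    rw [Matrix.mulVec_mulVec, hJJ, Matrix.one_mulVec]
  have h2 : Matrix.vecMul ((Matrix.J (Fin 3) (ZMod 2)).mulVec u) (Matrix.J (Fin 3) (ZMod 2)) = u := by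
    rw [← Matrix.mulVec_transpose, hJ, h1]
  have h3 : Matrix.vecMulVec u u + Matrix.vecMulVec u u = 0 := Matrix.ext fun _ _ => CharTwo.add_self_eq_zero _
  rw [tvm, Matrix.transpose_add, Matrix.transpose_one, Matrix.transpose_vecMulVec, add_mul, one_mul, Matrix.vecMulVec_mul, h2,
    mul_add, mul_one, add_mul, Matrix.mul_vecMulVec, h1, Matrix.vecMulVec_mul_vecMulVec, h0, zero_smul,
    Matrix.vecMulVec_zero, add_zero, add_assoc, h3, add_zero]

/-- transvections -/
def tv (u : U6) : G6 := ⟨tvm u, SymplecticGroup.mem_iff.2 (tvm_sp u)⟩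

theorem tv_smul (u v : U6) : tv u • v = v + bl v u • u := by
  have h1 : tv u • v = Matrix.mulVec (1 + Matrix.vecMulVec (show I6 → ZMod 2 from u)
      ((Matrix.J (Fin 3) (ZMod 2)).mulVec (show I6 → ZMod 2 from u))) (show I6 → ZMod 2 from v) := rfl
  rw [h1, Matrix.add_mulVec, Matrix.one_mulVec, Matrix.vecMulVec_mulVec]
  have h2 : bl v u = ((Matrix.J (Fin 3) (ZMod 2)).mulVec u) ⬝ᵥ (show I6 → ZMod 2 from v) := by
    rw [dotProduct_comm]
    exact bil_eq v u
  rw [h2]
  funext i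
  show v i + u i * _ = v i + _ * u i
  rw [mul_comm]
  rfl

theorem tvInst : Tv tv bl where
  fin := inferInstance
  two v := CharTwo.add_self_eq_zero (R := I6 → ZMod 2) v
  add := bl_add
  add' := bl_add'
  symm := bl_symm
  self := bl_self
  nd := bl_nd
  inv := bl_inv
  faith g h hgh := by
    apply Subtype.ext
    exact Matrix.ext_of_mulVec_single fun i => (by exact hgh (show U6 from Pi.single i 1))
  tv0 u v h := by rw [tv_smul, h, zero_smul, add_zero]
  tv1 u v h := by rw [tv_smul, h, one_smul]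

private noncomputable def _root_.Cfsg.Agent.LsF.f105412_11 : {f // @Cfsg.Agent.H547.Der.Six.Z15 = f} := ⟨_, by first | (delta Cfsg.Agent.H547.Der.Six.Z15; rewrite [Cfsg.Agent.LsF.mof_pat, Cfsg.Agent.LsF.vecCons_eq]; exact rfl) | exact rfl⟩
private noncomputable def _root_.Cfsg.Agent.LsF.f105412_12 : {f // @Cfsg.Agent.H547.Der.Six.Y3 = f} := ⟨_, by first | (delta Cfsg.Agent.H547.Der.Six.Y3; rewrite [Cfsg.Agent.LsF.f105412_11.2, Cfsg.Agent.LsF.finFintype_eq, Cfsg.Agent.LsF.instMHMul_eq, Cfsg.Agent.LsF.instZMul_pat, Cfsg.Agent.LsF.zACM_pat]; exact rfl) | exact rfl⟩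
private noncomputable def _root_.Cfsg.Agent.LsF.f105412_13 : {f // @Cfsg.Agent.H547.Der.Six.Y5 = f} := ⟨_, by first | (delta Cfsg.Agent.H547.Der.Six.Y5; rewrite [Cfsg.Agent.LsF.f105412_11.2, Cfsg.Agent.LsF.finFintype_eq, Cfsg.Agent.LsF.instMHMul_eq, Cfsg.Agent.LsF.instZMul_pat, Cfsg.Agent.LsF.zACM_pat]; exact rfl) | exact rfl⟩
set_option maxRecDepth 100000 in
theorem e0_spec : bil (dec f6) (Y3.mulVec (dec f6)) = 1 ∧ Y5.mulVec (dec f6) = dec f6 ∧
    Y5.mulVec (Y3.mulVec (dec f6)) = Y3.mulVec (dec f6) := by (refine of_decide_eq_true ?_; (try (rewrite [Cfsg.Agent.LsF.f105412_7.2, Cfsg.Agent.LsF.f105412_8.2, Cfsg.Agent.LsF.f105412_12.2, Cfsg.Agent.LsF.f105412_13.2, Cfsg.Agent.LsF.zdecEq_eq, Cfsg.Agent.LsF.finFintype_eq, Cfsg.Agent.LsF.dPi_eq, Cfsg.Agent.LsF.mulVec_eq, Cfsg.Agent.LsF.dAnd_eq, Cfsg.Agent.LsF.decide_eq])); decide +kernel)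

/-- **squares of elements of order 4 in `Sp₆(2)`** -/
theorem four_g6 {g : G6} (hg : orderOf g = 4) :
    ∃ a y : G6, orderOf a = 3 ∧ orderOf y = 5 ∧ a * y = y * a ∧ a * g ^ 2 = g ^ 2 * a := by
  refine tvInst.four card_U6 iso_le6 order_y5 (e0 := dec f6) (f0 := (show U6 from Y3.mulVec (dec f6)))
    e0_spec.1 ?_ ?_ hg
  · show mu ((z15 ^ 3 : G6) : M6) _ = _
    rw [coe_y5]
    exact e0_spec.2.1
  · show mu ((z15 ^ 3 : G6) : M6) _ = _
    rw [coe_y5]
    exact e0_spec.2.2

theorem four_congr {H K : Type*} [Group H] [Group K] (e : H ≃* K) (h : ∀ g : K, orderOf g = 4 →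
    ∃ a y : K, orderOf a = 3 ∧ orderOf y = 5 ∧ a * y = y * a ∧ a * g ^ 2 = g ^ 2 * a) (g : H) (hg : orderOf g = 4) :
    ∃ a y : H, orderOf a = 3 ∧ orderOf y = 5 ∧ a * y = y * a ∧ a * g ^ 2 = g ^ 2 * a := by
  obtain ⟨a, y, ha, hy, h1, h2⟩ := h (e g) (by rw [MulEquiv.orderOf_eq, hg])
  refine ⟨e.symm a, e.symm y, by rw [MulEquiv.orderOf_eq, ha], by rw [MulEquiv.orderOf_eq, hy], ?_, ?_⟩
  · rw [← map_mul, h1, map_mul]
  · apply e.injective
    rw [map_mul, map_mul, map_pow, e.apply_symm_apply, h2]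

set_option maxRecDepth 100000 in
/-- the simple groups of order 1451520 -/
theorem four_simple (OT : OrdDiv.OrderTable.{0})
    (hS : ∀ (X : Type) [Group X] [Finite X] [IsSimpleGroup X], Cfsg.IsKnownSimple' X)
    (M : Type) [Group M] [Finite M] (hs : IsSimpleGroup M) (h : Nat.card M = 1451520) (g : M) (hg : orderOf g = 4) :
    ∃ a y : M, orderOf a = 3 ∧ orderOf y = 5 ∧ a * y = y * a ∧ a * g ^ 2 = g ^ 2 * a := by
  have hna : ¬ ∀ x y : M, x * y = y * x := by
    intro hab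
    let cg : CommGroup M := { (inferInstance : Group M) with mul_comm := hab }
    have h3 : (Nat.card M).Prime := IsSimpleGroup.prime_card (α := M)
    rw [h] at h3
    norm_num at h3
  obtain ⟨c, hc, hr⟩ := OrdDiv.exists_real_filter OT (hS M) hna (l := [(2, 9), (3, 4), (5, 1), (7, 1)])
    (N := 1451520) (by decide +kernel) (by rw [h]) (fun o => Nat.beq o 1451520) (by rw [h]; rfl)
  rw [show ((OrdDiv.cands [(2, 9), (3, 4), (5, 1), (7, 1)] 1451520).filter fun g => Nat.beq (OrdDiv.ordN g) 1451520) =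
    [.psp 3 2] by decide +kernel] at hc
  simp only [List.mem_cons, List.not_mem_nil, or_false] at hc
  subst hc
  obtain ⟨F, _, _, hF, ⟨e⟩⟩ := hr
  have e1 := H503.El.pspEquiv (m := 3) (by norm_num)
  have e2 : M ≃* G6 := e.trans ((e1.trans (LieClassical.FieldTransfer.pspCongr 3
    (ZMod.ringEquivOfPrime F Nat.prime_two hF))).symm)
  exact four_congr e2 (fun g hg => four_g6 hg) g hg

end Cfsg.Agent.H547.Der.Six
end

-- part: H221/Der/CosOEight
section
/-!
# `Cos (Ω₈⁺(2))`: every outer coset contains elements of two different orders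

An automorphism fixes the class of an element `y` of order `v` (here `7`); so every coset contains an element commuting
with `y`, and the order of its product with `y` is divisible by `v`.
-/

set_option autoImplicit false
set_option maxRecDepth 100000

namespace Cfsg.Agent.H221.Der.CosOEight

open Subgroup Cfsg Cfsg.Agent Cfsg.Agent.H439.Der
open scoped Pointwise

/-- the general statement -/
theorem cos_of_inv {T : Type*} [Group T] [Finite T] (hZ : center T = ⊥) {v : ℕ} (hv : v.Prime) {y : T}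
    (hy : orderOf y = v) (hinv : ∀ φ : MulAut T, ∃ t : T, φ y = t * y * t⁻¹)
    (hout : (Nat.card (Cfsg.Out T)).Coprime v) : Cos T := by
  classical
  intro φ hφ
  by_contra hcon
  push Not at hcon
  obtain ⟨t, ht⟩ := hinv φ
  obtain ⟨ψ, hψ⟩ : ∃ ψ : MulAut T, ψ = MulAut.conj t⁻¹ * φ := ⟨_, rfl⟩
  have h1 : ψ y = y := by
    rw [hψ, MulAut.mul_apply, MulAut.conj_apply, ht]; group
  have h2 : orderOf ψ = orderOf φ := by rw [hψ]; exact hcon t⁻¹
  have h3 : orderOf (MulAut.conj y * ψ) = orderOf φ := by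
    rw [hψ, ← mul_assoc, ← map_mul]; exact hcon _
  have hcomm : Commute (MulAut.conj y) ψ := by
    apply MulEquiv.ext
    intro x
    rw [MulAut.mul_apply, MulAut.mul_apply, MulAut.conj_apply, MulAut.conj_apply, map_mul, map_mul, map_inv, h1]
  have h4 : v ∣ orderOf φ := by
    rw [← hy, orderOf_dvd_iff_pow_eq_one]
    have h5 := pow_orderOf_eq_one (MulAut.conj y * ψ)
    rw [h3, hcomm.mul_pow, ← h2, pow_orderOf_eq_one, mul_one, ← map_pow, h2] at h5
    have h6 : y ^ orderOf φ ∈ center T := by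
      rw [Subgroup.mem_center_iff]
      intro x
      have := MulEquiv.congr_fun h5 x
      rw [MulAut.conj_apply, MulAut.one_apply, mul_inv_eq_iff_eq_mul] at this
      exact this.symm
    rw [hZ, Subgroup.mem_bot] at h6
    exact h6
  -- a power of `ψ` in the coset
  obtain ⟨j, hj1, hj2⟩ := Nat.chineseRemainder hout 1 0
  have hj3 : v ∣ j := (Nat.modEq_zero_iff_dvd).1 hj2
  have h5 : ∃ s : T, ψ ^ j = MulAut.conj s * φ := by
    have h6 : (QuotientGroup.mk (ψ ^ j) : Cfsg.Out T) = QuotientGroup.mk ψ := by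
      rw [QuotientGroup.mk_pow]
      have h7 : (QuotientGroup.mk ψ : Cfsg.Out T) ^ j = (QuotientGroup.mk ψ : Cfsg.Out T) ^ 1 :=
        pow_eq_pow_iff_modEq.2 (hj1.of_dvd (_root_.orderOf_dvd_natCard _))
      rw [h7, pow_one]
    rw [hψ] at h6 ⊢
    have h8 : (QuotientGroup.mk ((MulAut.conj t⁻¹ * φ) ^ j) : Cfsg.Out T) = QuotientGroup.mk φ := by
      rw [h6, QuotientGroup.mk_mul, (QuotientGroup.eq_one_iff (MulAut.conj t⁻¹)).2
        (show MulAut.conj t⁻¹ ∈ Cfsg.Inn T from ⟨t⁻¹, rfl⟩), one_mul]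
    have h9 : (MulAut.conj t⁻¹ * φ) ^ j * φ⁻¹ ∈ Cfsg.Inn T := by
      rw [← QuotientGroup.eq_one_iff, QuotientGroup.mk_mul, h8, QuotientGroup.mk_inv, mul_inv_cancel]
    obtain ⟨s, hs⟩ := h9
    exact ⟨s, by rw [hs, inv_mul_cancel_right]⟩
  obtain ⟨s, hs⟩ := h5
  have h6 : orderOf (ψ ^ j) = orderOf φ := by rw [hs]; exact hcon s
  rw [orderOf_pow, h2] at h6
  have h7 : 0 < orderOf φ := orderOf_pos φ
  have h8 : 1 < Nat.gcd (orderOf φ) j := lt_of_lt_of_le hv.one_lt (Nat.le_of_dvd (Nat.gcd_pos_of_pos_left _ h7)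
    (Nat.dvd_gcd h4 hj3))
  exact absurd h6 (Nat.div_lt_self h7 h8).ne

/-- the class of `y` is invariant -/
theorem inv_of_powers {T : Type*} [Group T] [Finite T] {v : ℕ} (hv : v.Prime) {y : T} (hy : orderOf y = v)
    (hsyl : ¬ v ^ 2 ∣ Nat.card T) (hpow : ∀ k : ℕ, ¬ v ∣ k → ∃ t : T, t * y * t⁻¹ = y ^ k) (φ : MulAut T) :
    ∃ t : T, φ y = t * y * t⁻¹ := by
  classical
  have := Fact.mk hv
  have hfac : (Nat.card T).factorization v = 1 := by
    apply le_antisymm
    · by_contra h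
      push Not at h
      exact hsyl ((hv.pow_dvd_iff_le_factorization Nat.card_pos.ne').2 h)
    · rw [← hv.dvd_iff_one_le_factorization Nat.card_pos.ne', ← hy]
      exact _root_.orderOf_dvd_natCard y
  have hP : Nat.card (zpowers y) = v ^ (Nat.card T).factorization v := by
    rw [Nat.card_zpowers, hy, hfac, pow_one]
  have hQ : Nat.card (zpowers (φ y)) = v ^ (Nat.card T).factorization v := by
    rw [Nat.card_zpowers, hfac, pow_one, ← hy]
    exact orderOf_injective φ.toMonoidHom φ.injective y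
  obtain ⟨g, hg⟩ := MulAction.exists_smul_eq T (Sylow.ofCard _ hQ) (Sylow.ofCard _ hP)
  have h1 : g * φ y * g⁻¹ ∈ zpowers y := by
    have h2 : MulAut.conj g • φ y ∈ MulAut.conj g • (zpowers (φ y)) :=
      Subgroup.smul_mem_pointwise_smul _ _ _ (mem_zpowers (φ y))
    have h3 : ((g • Sylow.ofCard _ hQ : Sylow v T) : Subgroup T) = MulAut.conj g • (zpowers (φ y)) := rfl
    rw [← h3, hg] at h2
    exact h2
  obtain ⟨k, hk⟩ := (mem_powers_iff_mem_zpowers.2 h1)
  have h3 : ¬ v ∣ k := by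
    intro h
    have h4 : y ^ k = 1 := by rw [← orderOf_dvd_iff_pow_eq_one, hy]; exact h
    have h5 : g * φ y * g⁻¹ = 1 := hk.symm.trans h4
    have h6 : φ y = 1 := by
      rw [conj_eq_one_iff] at h5
      exact h5
    rw [map_eq_one_iff _ φ.injective] at h6
    rw [h6, orderOf_one] at hy
    exact hv.one_lt.ne hy
  obtain ⟨t, ht⟩ := hpow k h3
  refine ⟨g⁻¹ * t, ?_⟩
  have h4 : g * φ y * g⁻¹ = t * y * t⁻¹ := hk.symm.trans ht.symm
  have h5 : φ y = g⁻¹ * (g * φ y * g⁻¹) * g := by group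
  rw [h5, h4]; group

section concrete

open Cfsg.Agent.H503.El.O8 Cfsg.Agent.H503.El

def W0 : M8 := Matrix.fromBlocks !![0,0,0,0; 0,0,0,0; 0,0,0,0; 0,0,0,0] !![1,0,0,0; 0,1,0,0; 0,0,1,0; 0,0,0,1] !![1,0,0,0; 0,1,0,0; 0,0,1,0; 0,0,0,1] !![0,0,0,0; 0,0,0,0; 0,0,0,0; 0,0,0,0]
def Wy : M8 := Matrix.fromBlocks !![0,0,0,0; 0,0,0,0; 0,0,0,0; 0,0,0,0] !![0,1,0,0; 1,1,1,0; 0,1,1,0; 0,0,0,1] !![0,1,1,0; 1,0,0,0; 1,0,1,0; 0,0,0,1] !![0,0,0,0; 0,0,0,0; 0,0,0,0; 0,0,0,0]
def Ka : M8 := Matrix.fromBlocks !![0,0,0,0; 0,1,0,0; 0,0,0,0; 0,0,0,1] !![1,0,0,0; 0,0,0,0; 0,0,1,0; 0,0,0,0] !![1,0,0,0; 0,0,0,0; 0,0,1,0; 0,0,0,0] !![0,0,0,0; 0,1,0,0; 0,0,0,0; 0,0,0,1]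
def Kb : M8 := Matrix.fromBlocks !![0,1,0,0; 1,0,0,0; 0,0,0,1; 0,0,1,0] !![0,0,0,0; 0,0,0,0; 0,0,0,0; 0,0,0,0] !![0,0,0,0; 0,0,0,0; 0,0,0,0; 0,0,0,0] !![0,1,0,0; 1,0,0,0; 0,0,0,1; 0,0,1,0]
def Us : M8 := Matrix.fromBlocks !![0,0,1,0; 1,1,1,0; 1,0,0,0; 0,0,0,1] !![0,0,0,0; 0,0,0,0; 0,0,0,0; 0,0,0,0] !![0,0,0,0; 0,0,0,0; 0,0,0,0; 0,0,0,0] !![0,1,1,0; 0,1,0,0; 1,1,0,0; 0,0,0,1]
def Ut : M8 := Matrix.fromBlocks !![1,0,0,0; 0,1,0,0; 1,0,1,0; 0,0,0,1] !![0,0,0,0; 0,0,0,0; 0,0,0,0; 0,0,0,0] !![0,0,0,0; 0,0,0,0; 0,0,0,0; 0,0,0,0] !![1,0,1,0; 0,1,0,0; 0,0,1,0; 0,0,0,1]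

theorem W0_sq : W0 * W0 = 1 := by decide +kernel
theorem Wy_sq : Wy * Wy = 1 := by decide +kernel
theorem Ka_sq : Ka * Ka = 1 := by decide +kernel
theorem Kb_sq : Kb * Kb = 1 := by decide +kernel
theorem Us_sq : Us * Us = 1 := by decide +kernel
theorem Ut_sq : Ut * Ut = 1 := by decide +kernel

private theorem alt8 (D : I8 → I8 → ZMod 2) (h0 : ∀ i, D i i = 0) (h1 : ∀ i j, D i j + D j i = 0) (v : I8 → ZMod 2) :
    ∑ i, ∑ j, D i j * (v i * v j) = 0 := by
  rw [← Fintype.sum_prod_type']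
  refine Finset.sum_involution (fun p _ => p.swap) (fun p _ => ?_) (fun p _ hp h => hp ?_) (fun _ _ => Finset.mem_univ _)
    (fun p _ => Prod.swap_swap p)
  · show D p.1 p.2 * (v p.1 * v p.2) + D p.2 p.1 * (v p.2 * v p.1) = 0
    rw [mul_comm (v p.2), ← add_mul, h1, zero_mul]
  · have h2 : p.2 = p.1 := congrArg Prod.fst h
    rw [h2, h0, zero_mul]

/-- the coefficients of the form `Q8 (M v)` -/
private def cf8 (M : M8) (i j : I8) : ZMod 2 :=
  M (.inl 0) i * M (.inr 0) j + M (.inl 1) i * M (.inr 1) j + M (.inl 2) i * M (.inr 2) j + M (.inl 3) i * M (.inr 3) j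

private theorem q8_eq (M : M8) (v : I8 → ZMod 2) : Q8 (M.mulVec v) = ∑ i, ∑ j, cf8 M i j * (v i * v j) := by
  have h : ∀ k : Fin 4, M.mulVec v (.inl k) * M.mulVec v (.inr k) =
      ∑ i, ∑ j, M (.inl k) i * M (.inr k) j * (v i * v j) := fun k => by
    show (∑ i, M (.inl k) i * v i) * (∑ j, M (.inr k) j * v j) = _
    rw [Finset.sum_mul_sum]
    exact Finset.sum_congr rfl fun i _ => Finset.sum_congr rfl fun j _ => mul_mul_mul_comm _ _ _ _
  show ∑ k : Fin 4, M.mulVec v (.inl k) * M.mulVec v (.inr k) = _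
  rw [Fin.sum_univ_four, h, h, h, h]
  simp only [cf8, add_mul, Finset.sum_add_distrib]

private theorem iso8 (M : M8) (h0 : ∀ i, cf8 M i i = 0)
    (h1 : ∀ i j, cf8 M i j + cf8 M j i = cf8 1 i j + cf8 1 j i) (v : I8 → ZMod 2) : Q8 (M.mulVec v) = Q8 v := by
  have h2 : ∀ i, cf8 1 i i = 0 := by decide +kernel
  have h3 := alt8 (fun i j => cf8 M i j - cf8 1 i j) (fun i => by rw [h0, h2, sub_zero])
    (fun i j => by rw [sub_add_sub_comm, h1, sub_self]) v
  simp only [sub_mul, Finset.sum_sub_distrib] at h3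
  rw [← q8_eq, ← q8_eq, Matrix.one_mulVec] at h3
  exact sub_eq_zero.1 h3

theorem W0_iso : ∀ v, Q8 (W0.mulVec v) = Q8 v := iso8 W0 (by decide +kernel) (by decide +kernel)
theorem Wy_iso : ∀ v, Q8 (Wy.mulVec v) = Q8 v := iso8 Wy (by decide +kernel) (by decide +kernel)
theorem Ka_iso : ∀ v, Q8 (Ka.mulVec v) = Q8 v := iso8 Ka (by decide +kernel) (by decide +kernel)
theorem Kb_iso : ∀ v, Q8 (Kb.mulVec v) = Q8 v := iso8 Kb (by decide +kernel) (by decide +kernel)
theorem Us_iso : ∀ v, Q8 (Us.mulVec v) = Q8 v := iso8 Us (by decide +kernel) (by decide +kernel)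
theorem Ut_iso : ∀ v, Q8 (Ut.mulVec v) = Q8 v := iso8 Ut (by decide +kernel) (by decide +kernel)

/-- the products -/
def Y : M8 := W0 * Wy * W0 * Wy
def V : M8 := Ka * Kb * Ka * Kb
def U : M8 := Us * Ut * Us * Ut

private noncomputable def _root_.Cfsg.Agent.LsF.f105412_14 : {f // @Cfsg.Agent.H221.Der.CosOEight.W0 = f} := ⟨_, by first | (delta Cfsg.Agent.H221.Der.CosOEight.W0; rewrite [Cfsg.Agent.LsF.mof_pat, Cfsg.Agent.LsF.vecCons_eq]; exact rfl) | exact rfl⟩
private noncomputable def _root_.Cfsg.Agent.LsF.f105412_15 : {f // @Cfsg.Agent.H221.Der.CosOEight.Wy = f} := ⟨_, by first | (delta Cfsg.Agent.H221.Der.CosOEight.Wy; rewrite [Cfsg.Agent.LsF.mof_pat, Cfsg.Agent.LsF.vecCons_eq]; exact rfl) | exact rfl⟩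
private noncomputable def _root_.Cfsg.Agent.LsF.f105412_16 : {f // @Cfsg.Agent.H221.Der.CosOEight.Y = f} := ⟨_, by first | (delta Cfsg.Agent.H221.Der.CosOEight.Y; rewrite [Cfsg.Agent.LsF.f105412_14.2, Cfsg.Agent.LsF.f105412_15.2, Cfsg.Agent.LsF.finFintype_eq, Cfsg.Agent.LsF.instMHMul_eq, Cfsg.Agent.LsF.instZMul_pat, Cfsg.Agent.LsF.zACM_pat]; exact rfl) | exact rfl⟩
theorem Y_props : Y ^ 7 = 1 ∧ Y ≠ 1 := by (refine of_decide_eq_true ?_; (try (rewrite [Cfsg.Agent.LsF.f105412_16.2, Cfsg.Agent.LsF.mpow_pat, Cfsg.Agent.LsF.zdecEq_eq, Cfsg.Agent.LsF.finFintype_eq, Cfsg.Agent.LsF.dMat_eq, Cfsg.Agent.LsF.instMOne_eq, Cfsg.Agent.LsF.instZMul_pat, Cfsg.Agent.LsF.zACM_pat, Cfsg.Agent.LsF.dAnd_eq, Cfsg.Agent.LsF.dNot_eq, Cfsg.Agent.LsF.dFinEq_eq, Cfsg.Agent.LsF.decide_eq])); decide +kernel)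
private noncomputable def _root_.Cfsg.Agent.LsF.f105412_17 : {f // @Cfsg.Agent.H221.Der.CosOEight.Ka = f} := ⟨_, by first | (delta Cfsg.Agent.H221.Der.CosOEight.Ka; rewrite [Cfsg.Agent.LsF.mof_pat, Cfsg.Agent.LsF.vecCons_eq]; exact rfl) | exact rfl⟩
private noncomputable def _root_.Cfsg.Agent.LsF.f105412_18 : {f // @Cfsg.Agent.H221.Der.CosOEight.Kb = f} := ⟨_, by first | (delta Cfsg.Agent.H221.Der.CosOEight.Kb; rewrite [Cfsg.Agent.LsF.mof_pat, Cfsg.Agent.LsF.vecCons_eq]; exact rfl) | exact rfl⟩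
private noncomputable def _root_.Cfsg.Agent.LsF.f105412_19 : {f // @Cfsg.Agent.H221.Der.CosOEight.V = f} := ⟨_, by first | (delta Cfsg.Agent.H221.Der.CosOEight.V; rewrite [Cfsg.Agent.LsF.f105412_17.2, Cfsg.Agent.LsF.f105412_18.2, Cfsg.Agent.LsF.finFintype_eq, Cfsg.Agent.LsF.instMHMul_eq, Cfsg.Agent.LsF.instZMul_pat, Cfsg.Agent.LsF.zACM_pat]; exact rfl) | exact rfl⟩
theorem V_conj : V * Y = Y ^ 6 * V := by (refine of_decide_eq_true ?_; (try (rewrite [Cfsg.Agent.LsF.f105412_19.2, Cfsg.Agent.LsF.f105412_16.2, Cfsg.Agent.LsF.mpow_pat, Cfsg.Agent.LsF.zdecEq_eq, Cfsg.Agent.LsF.finFintype_eq, Cfsg.Agent.LsF.dMat_eq, Cfsg.Agent.LsF.instMHMul_eq, Cfsg.Agent.LsF.instZMul_pat, Cfsg.Agent.LsF.zACM_pat, Cfsg.Agent.LsF.dFinEq_eq, Cfsg.Agent.LsF.decide_eq])); decide +kernel)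
private noncomputable def _root_.Cfsg.Agent.LsF.f105412_20 : {f // @Cfsg.Agent.H221.Der.CosOEight.Us = f} := ⟨_, by first | (delta Cfsg.Agent.H221.Der.CosOEight.Us; rewrite [Cfsg.Agent.LsF.mof_pat, Cfsg.Agent.LsF.vecCons_eq]; exact rfl) | exact rfl⟩
private noncomputable def _root_.Cfsg.Agent.LsF.f105412_21 : {f // @Cfsg.Agent.H221.Der.CosOEight.Ut = f} := ⟨_, by first | (delta Cfsg.Agent.H221.Der.CosOEight.Ut; rewrite [Cfsg.Agent.LsF.mof_pat, Cfsg.Agent.LsF.vecCons_eq]; exact rfl) | exact rfl⟩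
private noncomputable def _root_.Cfsg.Agent.LsF.f105412_22 : {f // @Cfsg.Agent.H221.Der.CosOEight.U = f} := ⟨_, by first | (delta Cfsg.Agent.H221.Der.CosOEight.U; rewrite [Cfsg.Agent.LsF.f105412_20.2, Cfsg.Agent.LsF.f105412_21.2, Cfsg.Agent.LsF.finFintype_eq, Cfsg.Agent.LsF.instMHMul_eq, Cfsg.Agent.LsF.instZMul_pat, Cfsg.Agent.LsF.zACM_pat]; exact rfl) | exact rfl⟩
theorem U_conj : U * Y = Y ^ 2 * U := by (refine of_decide_eq_true ?_; (try (rewrite [Cfsg.Agent.LsF.f105412_22.2, Cfsg.Agent.LsF.f105412_16.2, Cfsg.Agent.LsF.mpow_pat, Cfsg.Agent.LsF.zdecEq_eq, Cfsg.Agent.LsF.finFintype_eq, Cfsg.Agent.LsF.dMat_eq, Cfsg.Agent.LsF.instMHMul_eq, Cfsg.Agent.LsF.instZMul_pat, Cfsg.Agent.LsF.zACM_pat, Cfsg.Agent.LsF.dFinEq_eq, Cfsg.Agent.LsF.decide_eq])); decide +kernel)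

/-- the elements -/
def y : S8 := comOf W0 Wy W0_sq Wy_sq W0_iso Wy_iso
def u : S8 := comOf Us Ut Us_sq Ut_sq Us_iso Ut_iso
def w : S8 := comOf Ka Kb Ka_sq Kb_sq Ka_iso Kb_iso

theorem rho_y : rho y = Y := rho_comOf _ _ _ _ _ _
theorem rho_u : rho u = U := rho_comOf _ _ _ _ _ _
theorem rho_w : rho w = V := rho_comOf _ _ _ _ _ _

attribute [irreducible] y u w
attribute [local irreducible] Y U V

theorem order_y : orderOf y = 7 := by
  have : Fact (Nat.Prime 7) := ⟨by norm_num⟩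
  exact orderOf_eq_prime (rho_injective (by rw [map_pow, rho_y, map_one]; exact Y_props.1))
    (fun h => Y_props.2 (by rw [← rho_y, h, map_one]))

theorem w_conj : w * y * w⁻¹ = y ^ 6 := by
  rw [mul_inv_eq_iff_eq_mul]
  apply rho_injective
  rw [map_mul, map_mul, map_pow, rho_w, rho_y]
  exact V_conj

theorem u_conj : u * y * u⁻¹ = y ^ 2 := by
  rw [mul_inv_eq_iff_eq_mul]
  apply rho_injective
  rw [map_mul, map_mul, map_pow, rho_u, rho_y]
  exact U_conj

/-- powers -/
theorem powers {S : Type*} [Group S] {y u w : S} (hy : y ^ 7 = 1) (hw : w * y * w⁻¹ = y ^ 6)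
    (hu : u * y * u⁻¹ = y ^ 2) (k : ℕ) (hk : ¬ 7 ∣ k) : ∃ t : S, t * y * t⁻¹ = y ^ k := by
  have hmod : ∀ k : ℕ, y ^ k = y ^ (k % 7) := fun k => by
    conv_lhs => rw [← Nat.div_add_mod k 7, pow_add, pow_mul, hy, one_pow, one_mul]
  have hpw : ∀ (t : S) (j k : ℕ), t * y * t⁻¹ = y ^ j → t * y ^ k * t⁻¹ = y ^ (j * k) := by
    intro t j k h
    rw [← conj_pow, h, ← pow_mul]
  have h2 : u ^ 2 * y * (u ^ 2)⁻¹ = y ^ 4 := by
    rw [show u ^ 2 * y * (u ^ 2)⁻¹ = u * (u * y * u⁻¹) * u⁻¹ by simp only [pow_two, mul_inv_rev, mul_assoc], hu, hpw u 2 2 hu]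
  have hlt : k % 7 < 7 := Nat.mod_lt _ (by norm_num)
  have hne : k % 7 ≠ 0 := fun h => hk (Nat.dvd_of_mod_eq_zero h)
  rw [hmod k]
  rcases (show k % 7 = 1 ∨ k % 7 = 2 ∨ k % 7 = 3 ∨ k % 7 = 4 ∨ k % 7 = 5 ∨ k % 7 = 6 by (clear * - hk; solve | lia | omega)) with
    h | h | h | h | h | h <;> rw [h]
  · exact ⟨1, by simp⟩
  · exact ⟨u, hu⟩
  · refine ⟨w * u ^ 2, ?_⟩
    rw [show w * u ^ 2 * y * (w * u ^ 2)⁻¹ = w * (u ^ 2 * y * (u ^ 2)⁻¹) * w⁻¹ by group, h2, hpw w 6 4 hw, hmod]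
  · exact ⟨u ^ 2, h2⟩
  · refine ⟨w * u, ?_⟩
    rw [show w * u * y * (w * u)⁻¹ = w * (u * y * u⁻¹) * w⁻¹ by group, hu, hpw w 6 2 hw, hmod]
  · exact ⟨w, hw⟩

/-- **`Ω₈⁺(2)`.** -/
theorem cos_o8p2 {F : Type} [Field F] [Fintype F] (hF : Fintype.card F = 2) :
    Cfsg.Agent.H439.Der.Cos (Cfsg.POmega F (Cfsg.quadFormPlus 4 F)) := by
  classical
  obtain ⟨E, hE⟩ : ∃ E : S8 ≃* POmega F (quadFormPlus 4 F), E = e8.trans (pomCongr hF) := ⟨_, rfl⟩
  have hcard : Nat.card (POmega F (quadFormPlus 4 F)) = 174182400 := by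
    rw [← Nat.card_congr (pomCongr hF).toEquiv]; exact card_t8
  have hfin : Finite (POmega F (quadFormPlus 4 F)) := Nat.finite_of_card_ne_zero (by rw [hcard]; norm_num)
  have hy : orderOf (E y) = 7 := by
    rw [← order_y]; exact orderOf_injective E.toMonoidHom E.injective y
  have hsimp : IsSimpleGroup (POmega F (quadFormPlus 4 F)) :=
    (MulEquiv.isSimpleGroup_congr (pomCongr hF)).1 inferInstance
  refine cos_of_inv (v := 7) ?_ (by norm_num) hy (inv_of_powers (by norm_num) hy (by rw [hcard]; norm_num) ?_) ?_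
  · rw [eq_bot_iff]
    intro z hz
    have h1 : E.symm z ∈ center S8 := by
      rw [Subgroup.mem_center_iff] at hz ⊢
      intro x
      apply E.injective
      rw [map_mul, map_mul, MulEquiv.apply_symm_apply]
      exact hz _
    rw [center_s8, Subgroup.mem_bot] at h1
    rw [Subgroup.mem_bot, ← MulEquiv.apply_symm_apply E z, h1, map_one]
  · intro k hk
    refine powers (u := E u) (w := E w) ?_ ?_ ?_ k hk
    · rw [← map_pow, ← order_y, pow_orderOf_eq_one, map_one]
    · rw [← map_mul, ← map_inv, ← map_mul, w_conj, map_pow]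
    · rw [← map_mul, ← map_inv, ← map_mul, u_conj, map_pow]
  · obtain ⟨e⟩ := by simpa using S2607.result (F := F) (f := 1) (m := 4) le_rfl (by rw [hF]; norm_num) le_rfl
    rw [Nat.card_congr e.toEquiv, Nat.card_prod]
    simp only [Nat.card_eq_fintype_card, Fintype.card_perm, _root_.Fintype.card_fin, _root_.Fintype.card_unique, _root_.mul_one]
    decide

end concrete

end Cfsg.Agent.H221.Der.CosOEight
end

-- part: H547/Der/OctRow
section
/-!
# `Ω⁺₈(2)`: the row for S3502 (helper547)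
-/

set_option autoImplicit false

namespace Cfsg.Agent.H547.Der.Eight

open Subgroup Cfsg Cfsg.Agent.H503.El.O8 Cfsg.Agent.H547.Der.Oc Cfsg.Agent.H439.Der Cfsg.Agent Cfsg.Agent.H970.StabNum
open Cfsg.Agent.H396

/-- the property of `Sp₆(2)` -/
def F4 : Prop := ∀ (M : Type) [Group M] [Finite M], IsSimpleGroup M → Nat.card M = 1451520 → ∀ g : M, orderOf g = 4 →
  ∃ a y : M, orderOf a = 3 ∧ orderOf y = 5 ∧ a * y = y * a ∧ a * g ^ 2 = g ^ 2 * a

theorem prs_a : ∀ p ∈ prs8, 181440 ∣ p.1 → p.1 = 181440 ∨ p = (1451520, 1451520) := by decide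

theorem prs_b : ∀ p ∈ prs8, 604800 ∣ p.1 → p.1 = 604800 := by decide

theorem prs_c : ∀ p ∈ prs8, 1451520 ∣ p.1 → p.1 = 1451520 := by decide

/-- overgroups -/
theorem overG (OT : OrdDiv.OrderTable.{0})
    (hS : ∀ (X : Type) [Group X] [Finite X] [IsSimpleGroup X], Cfsg.IsKnownSimple' X)
    {R : Subgroup T8} (hR : R ≠ ⊤) (h7 : 7 ∣ Nat.card R) (h5 : 5 ∣ Nat.card R) (hc : ¬ IsCoatom R) :
    Three T8 R ∨ ∃ N : Subgroup T8, R ≤ N ∧ Nat.card R ≠ Nat.card N ∧ Nat.card R ∣ Nat.card N ∧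
      ∃ L : Subgroup N, L.Normal ∧ IsSimpleGroup L ∧ (Nat.card N, Nat.card L) ∈ prs8 := by
  have h1 : ∃ N : Subgroup T8, R < N ∧ N ≠ ⊤ := by
    by_contra h
    push Not at h
    exact hc ⟨hR, h⟩
  obtain ⟨N, hRN, hN⟩ := h1
  have hd := Subgroup.card_dvd_of_le hRN.le
  by_cases hO : pCore 2 N = ⊥
  · right
    obtain ⟨L, hLn, hLs, -, hm⟩ := classify OT hS hN (h7.trans hd) (h5.trans hd) hO
    refine ⟨N, hRN.le, fun h => ?_, hd, L, hLn, hLs, hm⟩
    exact hRN.ne (Subgroup.eq_of_le_of_card_ge hRN.le h.ge)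
  · left
    exact (TO2 (h5.trans hd) hO).mono hRN.le

theorem eq_top_of {H : Type*} [Group H] [Finite H] {L : Subgroup H} (h : Nat.card H = Nat.card L) : L = ⊤ :=
  Subgroup.eq_top_of_card_eq L h.symm

theorem no_over {N : Subgroup T8} {R : Subgroup T8} (hRN : R ≤ N) {L : Subgroup N} (hs : IsSimpleGroup L)
    (hN : Nat.card N = 1451520) (hL : Nat.card L = 1451520) (hR : Nat.card R = 181440) : False := by
  have h1 : L = ⊤ := eq_top_of (hN.trans hL.symm)
  have e : N ≃* L := (Subgroup.topEquiv.symm).trans (MulEquiv.subgroupCongr h1.symm)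
  have hNs : IsSimpleGroup N := e.isSimpleGroup
  refine no_index_eight hNs hN (H := R.subgroupOf N) ?_
  have h2 := (R.subgroupOf N).card_mul_index
  have h3 : Nat.card (R.subgroupOf N) = 181440 := by
    rw [← hR]
    exact Nat.card_congr (subgroupOfEquivOfLe hRN).toEquiv
  rw [h3, hN] at h2
  omega

/-- **all proper subgroups** -/
theorem all_cases (OT : OrdDiv.OrderTable.{0})
    (hS : ∀ (X : Type) [Group X] [Finite X] [IsSimpleGroup X], Cfsg.IsKnownSimple' X) (hF4 : F4)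
    (R : Subgroup T8) (hR : R ≠ ⊤) : Fin3 T8 R ∨ (IsCoatom R ∧ H938.Sax.Miss T8 R) := by
  have key : (Three T8 R ∨ (ThreeT T8 R ∧ Two T8 R ∧ NoOne T8 R)) → Fin3 T8 R := fun h => by
    rcases h with h | ⟨h1, h2, h3⟩
    · exact Or.inl h
    · exact Or.inr ⟨h1, h2, Or.inl h3⟩
  by_cases h5 : 5 ∣ Nat.card R
  swap
  · exact Or.inl (Or.inl (T5 h5))
  by_cases h7 : 7 ∣ Nat.card R
  swap
  · exact Or.inl (key (T7 OT hS h7 h5))
  by_cases hO : pCore 2 R = ⊥
  swap
  · exact Or.inl (Or.inl (TO2 h5 hO))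
  obtain ⟨L, hLn, hLs, hna, hm⟩ := classify OT hS hR h7 h5 hO
  have hcases : (Nat.card R = 2520 ∧ Nat.card L = 2520) ∨ (Nat.card R = 5040 ∧ Nat.card L = 2520) ∨
      (Nat.card R = 20160 ∧ Nat.card L = 20160) ∨ (Nat.card R = 40320 ∧ Nat.card L = 20160) ∨
      (Nat.card R = 181440 ∧ Nat.card L = 181440) ∨ (Nat.card R = 604800 ∧ Nat.card L = 604800) ∨
      (Nat.card R = 1451520 ∧ Nat.card L = 1451520) := by
    simpa only [prs8, List.mem_cons, List.not_mem_nil, or_false, Prod.mk.injEq] using hm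
  rcases hcases with ⟨hRc, hLc⟩ | ⟨hRc, hLc⟩ | ⟨hRc, hLc⟩ | ⟨hRc, hLc⟩ | ⟨hRc, hLc⟩ | ⟨hRc, hLc⟩ | ⟨hRc, hLc⟩
  · have h1 := index_of hRc hLc
    exact Or.inl (key (Or.inr (case2520 OT hS hLn hLs hna (by
      have : L.index = 1 := by omega
      rw [this]; norm_num) hLc (by rw [hRc]; norm_num) (by rw [hRc]; norm_num))))
  · have h1 := index_of hRc hLc
    exact Or.inl (key (Or.inr (case2520 OT hS hLn hLs hna (by
      have : L.index = 2 := by omega
      rw [this]) hLc (by rw [hRc]; norm_num) (by rw [hRc]; norm_num))))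
  · have h1 := index_of hRc hLc
    exact Or.inl (key (case20160 OT hS hLn hLs hna (by
      have : L.index = 1 := by omega
      rw [this]; norm_num) hLc (by rw [hRc]; norm_num) (by rw [hRc]; norm_num)))
  · have h1 := index_of hRc hLc
    exact Or.inl (key (case20160 OT hS hLn hLs hna (by
      have : L.index = 2 := by omega
      rw [this]) hLc (by rw [hRc]; norm_num) (by rw [hRc]; norm_num)))
  · -- `A₉`
    have hmiss : H938.Sax.Miss T8 R := by
      refine ⟨g8, fun φ hφ => ?_⟩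
      have hL : L = ⊤ := eq_top_of (hRc.trans hLc.symm)
      have h3 : (⟨φ g8, hφ⟩ : R) ∈ L := by rw [hL]; trivial
      refine case181440 OT hS hna hLc ⟨⟨φ g8, hφ⟩, h3⟩ ?_
      rw [Subgroup.orderOf_mk, Subgroup.orderOf_mk, MulEquiv.orderOf_eq, order_g8]
    by_cases hco : IsCoatom R
    · exact Or.inr ⟨hco, hmiss⟩
    · rcases overG OT hS hR h7 h5 hco with h | ⟨N, hRN, hne, hd, LN, hLNn, hLNs, hmN⟩
      · exact Or.inl (Or.inl h)
      · exfalso
        rw [hRc] at hne hd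
        rcases prs_a _ hmN hd with h | h
        · exact hne h.symm
        · exact no_over hRN hLNs (congrArg Prod.fst h) (congrArg Prod.snd h) hRc
  · -- `J₂`
    have hJR := caseD2 OT hS card_t8 hent (data OT hS) (R := R) (Or.inl hRc)
    have hmiss : H938.Sax.Miss T8 R := ⟨tg4 ^ 2, not_j2_mem hJR⟩
    by_cases hco : IsCoatom R
    · exact Or.inr ⟨hco, hmiss⟩
    · rcases overG OT hS hR h7 h5 hco with h | ⟨N, hRN, hne, hd, LN, hLNn, hLNs, hmN⟩
      · exact Or.inl (Or.inl h)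
      · exfalso
        rw [hRc] at hne hd
        exact hne (prs_b _ hmN hd).symm
  · -- `Sp₆(2)`
    have hmiss : H938.Sax.Miss T8 R := by
      refine ⟨tg4, fun φ hφ => ?_⟩
      have hL : L = ⊤ := eq_top_of (hRc.trans hLc.symm)
      have h3 : (⟨φ tg4, hφ⟩ : R) ∈ L := by rw [hL]; trivial
      obtain ⟨a, y, ha, hy, hay, hag⟩ := hF4 L hLs hLc ⟨⟨φ tg4, hφ⟩, h3⟩ (by
        rw [Subgroup.orderOf_mk, Subgroup.orderOf_mk, MulEquiv.orderOf_eq, order_tg4])
      refine no_three φ ((a : R) : T8) ((y : R) : T8) (by rw [Subgroup.orderOf_coe, Subgroup.orderOf_coe, ha])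
        (by rw [Subgroup.orderOf_coe, Subgroup.orderOf_coe, hy]) ?_ ?_
      · exact congrArg (fun z : L => ((z : R) : T8)) hay
      · exact congrArg (fun z : L => ((z : R) : T8)) hag
    by_cases hco : IsCoatom R
    · exact Or.inr ⟨hco, hmiss⟩
    · rcases overG OT hS hR h7 h5 hco with h | ⟨N, hRN, hne, hd, LN, hLNn, hLNs, hmN⟩
      · exact Or.inl (Or.inl h)
      · exfalso
        rw [hRc] at hne hd
        exact hne (prs_c _ hmN hd).symm

theorem rowW_t8 (OT : OrdDiv.OrderTable.{0})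
    (hS : ∀ (X : Type) [Group X] [Finite X] [IsSimpleGroup X], Cfsg.IsKnownSimple' X) (hF4 : F4) (hcos : Cos T8) :
    RowW T8 := by
  refine ⟨Or.inr ⟨hcos, fun M hM => ?_⟩, fun R hR hRc => ?_⟩
  · rcases all_cases OT hS hF4 M hM.1 with h | h
    · rcases h with h | h
      · exact h.two.miss
      · exact h.2.1.miss
    · exact h.2
  · rcases all_cases OT hS hF4 R hR with h | h
    · exact h
    · exact absurd h.1 hRc

theorem f4 (OT : OrdDiv.OrderTable.{0})
    (hS : ∀ (X : Type) [Group X] [Finite X] [IsSimpleGroup X], Cfsg.IsKnownSimple' X) : F4 :=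
  fun M _ _ hs h g hg => Six.four_simple OT hS M hs h g hg

theorem cos_t8 : Cos T8 := Cos.congr (H503.El.pomCongr (F := ZMod 2) (ZMod.card 2)).symm
  (H221.Der.CosOEight.cos_o8p2 (F := ZMod 2) (ZMod.card 2))

/-- **row `Ω⁺₈(2)` for S3502** -/
theorem rowW_o8p2 (OT : OrdDiv.OrderTable.{0})
    (hS : ∀ (X : Type) [Group X] [Finite X] [IsSimpleGroup X], Cfsg.IsKnownSimple' X)
    (F : Type) [Field F] [Fintype F] (hF : Fintype.card F = 2) : RowW (POmega F (quadFormPlus 4 F)) :=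
  RowW.congr (H503.El.pomCongr hF) (rowW_t8 OT hS (f4 OT hS) cos_t8)

end Cfsg.Agent.H547.Der.Eight
end

private theorem dce_a475e3d930d5 : _root_.True := by
  try have : _root_.True := by simp only [_root_.Cfsg.Agent.H547.Der.Eight.prs8.eq_1]
  try have : _root_.True := by simp only [_root_.Cfsg.Agent.H547.Der.Six.bl.eq_1]
  try have : _root_.True := by simp only [_root_.Cfsg.Agent.H320.Der.M0.eq_1]
  exact _root_.True.intro
end

-- part: H149/Der/AtO83
section
prune_inst 0x5200240580000000000059451003c06ce000090002b0001d9200044048fff0380020f60fca03a00010aa22400398040000000d9005000000e008200411801a08402d2061200a104240001c0a806000000000000000000000000000000041004000000000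
set_option linter.all false
open scoped Cfsg.Agent.FastGrp

/-!
# `PΩ⁺₈(3)`: the classes of elements of orders 7 and 13 (helper149)

* `cent_seven`, `no_three` : subgroups of order 7
* `at_seven`, `at_thirteen` : the `Aut T`-classes of elements of orders 7 and 13 are `T`-classes
* `cos_t8`, `cos3_t8`, `outBadN_t8`
-/

set_option autoImplicit false
set_option maxRecDepth 100000

namespace Cfsg.Agent.H149.Der

open Subgroup Cfsg.Agent.H439.Der

section classes

variable {T : Type*} [Group T] [Finite T] {r : ℕ}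

theorem exists_conj_mem (hr : r.Prime) (h2 : ¬ r ^ 2 ∣ Nat.card T) {x y : T} (hx : orderOf x = r) (hy : orderOf y = r) :
    ∃ g : T, g * y * g⁻¹ ∈ zpowers x := by
  haveI : Fact r.Prime := ⟨hr⟩
  obtain ⟨P, hP⟩ := H970.StabNum.exists_sylow_of_card (T := T) h2 (P := zpowers x) (by rw [Nat.card_zpowers, hx])
  obtain ⟨Q, hQ⟩ := H970.StabNum.exists_sylow_of_card (T := T) h2 (P := zpowers y) (by rw [Nat.card_zpowers, hy])
  obtain ⟨g, hg⟩ := MulAction.exists_smul_eq T Q P
  refine ⟨g, ?_⟩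
  rw [← hP, ← hg, Sylow.coe_subgroup_smul, hQ]
  exact ⟨y, mem_zpowers y, rfl⟩

theorem conjPow_subset {x : T} (hx : x ≠ 1) : conjPow x ⊆ {y | y ∈ zpowers x ∧ y ≠ 1} := by
  rintro y ⟨hy, g, rfl⟩
  refine ⟨hy, fun h => hx ?_⟩
  rwa [mul_inv_eq_one, mul_eq_left] at h

theorem card_punctured {x : T} (hx : orderOf x = r) : Set.ncard {y : T | y ∈ zpowers x ∧ y ≠ 1} = r - 1 := by
  have h1 : {y : T | y ∈ zpowers x ∧ y ≠ 1} = (zpowers x : Set T) \ {1} := by
    ext y
    simp
  rw [h1, Set.ncard_sdiff_singleton_of_mem (one_mem _)]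
  have h2 : (zpowers x : Set T).ncard = Nat.card (zpowers x) := rfl
  rw [h2, Nat.card_zpowers, hx]

/-- one class -/
theorem one_class (hr : r.Prime) (h2 : ¬ r ^ 2 ∣ Nat.card T) {x y : T} (hx : orderOf x = r) (hy : orderOf y = r)
    (hk : Nat.card (conjPow x) = r - 1) : ∃ g : T, g * y * g⁻¹ = x := by
  have hx1 : x ≠ 1 := by
    rintro rfl
    rw [orderOf_one] at hx
    exact hr.one_lt.ne hx
  obtain ⟨g, hg⟩ := exists_conj_mem hr h2 hx hy
  have h3 : conjPow x = {y | y ∈ zpowers x ∧ y ≠ 1} :=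
    Set.eq_of_subset_of_ncard_le (conjPow_subset hx1) (by
      rw [card_punctured hx, ← hk]
      exact le_rfl) (Set.toFinite _)
  have h4 : g * y * g⁻¹ ∈ conjPow x := by
    rw [h3]
    refine ⟨hg, fun h => ?_⟩
    rw [mul_inv_eq_one, mul_eq_left] at h
    rw [h, orderOf_one] at hy
    exact hr.one_lt.ne hy
  obtain ⟨-, h, hh⟩ := h4
  refine ⟨h⁻¹ * g, ?_⟩
  have h5 : h⁻¹ * g * y * (h⁻¹ * g)⁻¹ = h⁻¹ * (g * y * g⁻¹) * h := by group
  rw [h5, ← hh]
  group

/-- two classes -/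
theorem two_class (hr : r.Prime) (h2 : ¬ r ^ 2 ∣ Nat.card T)
    (hk : ∀ x : T, orderOf x = r → 2 * Nat.card (conjPow x) = r - 1) {x y z : T} (hx : orderOf x = r)
    (hy : orderOf y = r) (hz : orderOf z = r) (hxy : ∀ g : T, g * x * g⁻¹ ≠ y) (hxz : ∀ g : T, g * x * g⁻¹ ≠ z) :
    ∃ g : T, g * y * g⁻¹ = z := by
  obtain ⟨a, ha⟩ := exists_conj_mem hr h2 hx hy
  obtain ⟨b, hb⟩ := exists_conj_mem hr h2 hx hz
  set y' := a * y * a⁻¹ with hy'
  set z' := b * z * b⁻¹ with hz'
  have hoy : orderOf y' = r := by rw [hy', orderOf_conj, hy]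
  have hoz : orderOf z' = r := by rw [hz', orderOf_conj, hz]
  have hne : ∀ w : T, orderOf w = r → w ≠ 1 := by
    rintro w hw rfl
    rw [orderOf_one] at hw
    exact hr.one_lt.ne hw
  have hzp : zpowers y' = zpowers x := by
    refine Subgroup.eq_of_le_of_card_ge ((zpowers_le).2 ha) ?_
    rw [Nat.card_zpowers, Nat.card_zpowers, hx, hoy]
  have hs1 := conjPow_subset (hne x hx)
  have hs2 := conjPow_subset (hne y' hoy)
  rw [hzp] at hs2
  have hd : Disjoint (conjPow x) (conjPow y') := by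
    rw [Set.disjoint_left]
    rintro w ⟨-, g, hg⟩ ⟨-, h, hh⟩
    apply hxy (a⁻¹ * h⁻¹ * g)
    have h5 : a⁻¹ * h⁻¹ * g * x * (a⁻¹ * h⁻¹ * g)⁻¹ = a⁻¹ * (h⁻¹ * (g * x * g⁻¹) * h) * a := by group
    rw [h5, hg, ← hh, hy']
    group
  have hu : conjPow x ∪ conjPow y' = {w | w ∈ zpowers x ∧ w ≠ 1} := by
    refine Set.eq_of_subset_of_ncard_le (Set.union_subset hs1 hs2) ?_ (Set.toFinite _)
    rw [card_punctured hx, Set.ncard_union_eq hd (Set.toFinite _) (Set.toFinite _)]
    have h5 := hk x hx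
    have h6 := hk y' hoy
    have h7 : Nat.card (conjPow x) = (conjPow x).ncard := rfl
    have h8 : Nat.card (conjPow y') = (conjPow y').ncard := rfl
    omega
  have h4 : z' ∈ conjPow x ∪ conjPow y' := by
    rw [hu]
    exact ⟨hb, hne z' hoz⟩
  rcases h4 with ⟨-, h, hh⟩ | ⟨-, h, hh⟩
  · exfalso
    apply hxz (b⁻¹ * h)
    have h5 : b⁻¹ * h * x * (b⁻¹ * h)⁻¹ = b⁻¹ * (h * x * h⁻¹) * b := by group
    rw [h5, hh, hz']
    group
  · refine ⟨b⁻¹ * h * a, ?_⟩
    have h5 : b⁻¹ * h * a * y * (b⁻¹ * h * a)⁻¹ = b⁻¹ * (h * (a * y * a⁻¹) * h⁻¹) * b := by group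
    rw [h5, ← hy', hh, hz']
    group

theorem AT.of_one (hr : r.Prime) (h2 : ¬ r ^ 2 ∣ Nat.card T) {x : T} (hx : orderOf x = r)
    (hk : Nat.card (conjPow x) = r - 1) : AT T x := fun φ =>
  one_class hr h2 hx (by rw [MulEquiv.orderOf_eq, hx]) hk

theorem AT.of_two (hr : r.Prime) (h2 : ¬ r ^ 2 ∣ Nat.card T)
    (hk : ∀ x : T, orderOf x = r → 2 * Nat.card (conjPow x) = r - 1) (honly : ∀ g : T, r ∣ orderOf g → orderOf g = r)
    (hsc : ¬ SC T r) {x : T} (hx : orderOf x = r) : AT T x := by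
  intro φ
  by_contra hcon
  push Not at hcon
  have hxφ : ∀ g : T, g * x * g⁻¹ ≠ φ x := by
    intro g hg
    apply hcon g⁻¹
    rw [← hg]
    group
  have hφ : orderOf (φ x) = r := by rw [MulEquiv.orderOf_eq, hx]
  have key : ∀ u : T, r ∣ orderOf u → ∃ ψ : T ≃* T, ψ x = u := by
    intro u hu
    by_cases h : ∃ g : T, g * x * g⁻¹ = u
    · obtain ⟨g, hg⟩ := h
      exact ⟨MulAut.conj g, hg⟩
    · push Not at h
      obtain ⟨g, hg⟩ := two_class hr h2 hk hx hφ (honly u hu) hxφ h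
      exact ⟨φ.trans (MulAut.conj g), hg⟩
  apply hsc
  intro u v hu hv
  obtain ⟨ψ, hψ⟩ := key u hu
  obtain ⟨χ, hχ⟩ := key v hv
  refine ⟨ψ.symm.trans χ, ?_⟩
  rw [MulEquiv.trans_apply, ← hψ, MulEquiv.symm_apply_apply, hχ]

/-- Sylow's congruence -/
theorem mod_normalizer (hr : r.Prime) (h2 : ¬ r ^ 2 ∣ Nat.card T) {x : T} (hx : orderOf x = r) :
    ∃ n : ℕ, Nat.card T = Nat.card (conjPow x) * Nat.card (centralizer ({x} : Set T)) * n ∧ n % r = 1 := by
  haveI : Fact r.Prime := ⟨hr⟩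
  obtain ⟨P, hP⟩ := H970.StabNum.exists_sylow_of_card (T := T) h2 (P := zpowers x) (by rw [Nat.card_zpowers, hx])
  have h1 := card_sylow_modEq_one r T
  have hP' : (P : Set T) = (zpowers x : Set T) := congrArg (fun H : Subgroup T => (H : Set T)) hP
  rw [P.card_eq_index_normalizer, hP'] at h1
  refine ⟨(normalizer (zpowers x : Set T)).index, ?_, ?_⟩
  · rw [card_conjPow_mul]
    exact (Subgroup.card_mul_index _).symm
  · have h3 : (normalizer (zpowers x : Set T)).index % r = 1 % r := h1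
    rwa [Nat.mod_eq_of_lt hr.one_lt] at h3

theorem centralizer_zpowers (x : T) : centralizer ((zpowers x : Subgroup T) : Set T) = centralizer ({x} : Set T) := by
  rw [zpowers_eq_closure, centralizer_closure]

end classes

namespace O8

open Cfsg Cfsg.Agent.H503.El.O83 Cfsg.Agent.LieClassical.OrthForms Cfsg.Agent.H385.Otp

theorem dat8 : Dat7 (plusForm 4 (ZMod 3)) := by
  have hN : ∀ c : ZMod 3, 3 * Nat.card {v : Fin 4 ⊕ Fin 4 → ZMod 3 // plusForm 4 (ZMod 3) v = c} + 3 ^ 4 =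
      3 ^ (2 * 4) + if c = 0 then 3 ^ (4 + 1) else 0 := by
    intro c
    have h := Cfsg.Agent.LieClassical.QuadCount.card_plus (F := ZMod 3) 4 c
    rw [ZMod.card] at h
    rw [coe_plusForm]
    exact h
  refine ⟨Cfsg.Agent.H134.OmegaThree.plus_dat (ZMod.card 3), by simp, ?_, ?_⟩
  · have h := hN 0
    rw [if_pos rfl] at h
    omega
  · have h := hN 1
    rw [if_neg one_ne_zero] at h
    omega

theorem le_four {s : T8} (hs : orderOf s = 7) (E : Subgroup T8) (hE : ∀ e ∈ E, e * e = 1)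
    (hc : ∀ e ∈ E, Commute e s) : Nat.card E ≤ 4 := by
  have h : ∀ (s : POmega (ZMod 3) ⇑(plusForm 4 (ZMod 3))), orderOf s = 7 →
      ∀ (E : Subgroup (POmega (ZMod 3) ⇑(plusForm 4 (ZMod 3)))), (∀ e ∈ E, e * e = 1) → (∀ e ∈ E, Commute e s) →
        Nat.card E ≤ 4 := fun s hs E hE hc => dat8.card_le_four hs E hE hc
  rw [coe_plusForm] at h
  exact h s hs E hE hc

theorem no_three' {s : T8} (hs : orderOf s = 7) (E : Subgroup T8) (hE : IsPGroup 3 E)
    (hn : ∀ e ∈ E, s * e * s⁻¹ ∈ E) : E = ⊥ := by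
  have h : ∀ (s : POmega (ZMod 3) ⇑(plusForm 4 (ZMod 3))), orderOf s = 7 →
      ∀ (E : Subgroup (POmega (ZMod 3) ⇑(plusForm 4 (ZMod 3)))), IsPGroup 3 E → (∀ e ∈ E, s * e * s⁻¹ ∈ E) →
        E = ⊥ := fun s hs E hE hn => dat8.no_three hs E hE hn
  rw [coe_plusForm] at h
  exact h s hs E hE hn

theorem exists_gen {P : Subgroup T8} {r : ℕ} (hr : r.Prime) (hP : Nat.card P = r) :
    ∃ s : T8, orderOf s = r ∧ P = zpowers s := by
  haveI : Fact r.Prime := ⟨hr⟩
  obtain ⟨s, hs⟩ := exists_prime_orderOf_dvd_card' (G := P) r (by rw [hP])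
  have hs' : orderOf (s : T8) = r := by rw [Subgroup.orderOf_coe, hs]
  refine ⟨s, hs', (Subgroup.eq_of_le_of_card_ge ((zpowers_le).2 s.2) ?_).symm⟩
  rw [Nat.card_zpowers, hs', hP]

/-- **a subgroup of order 7 normalizes no non-trivial 3-subgroup** -/
theorem no_three {P Q : Subgroup T8} (hP : Nat.card P = 7) (hQ : IsPGroup 3 Q)
    (h : P ≤ Subgroup.normalizer (Q : Set T8)) : Q = ⊥ := by
  obtain ⟨s, hs, rfl⟩ := exists_gen (by norm_num) hP
  exact no_three' hs Q hQ fun e he => (mem_normalizer_iff.1 (h (mem_zpowers s)) e).1 he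

theorem card_cent_seven {s : T8} (hs : orderOf s = 7) : Nat.card (centralizer ({s} : Set T8)) ∣ 28 := by
  have hcomm : ∀ c ∈ centralizer ({s} : Set T8), Commute c s := fun c hc => mem_centralizer_singleton_iff.1 hc
  have hord : ∀ c ∈ centralizer ({s} : Set T8), Nat.Coprime (orderOf c) 7 → orderOf c * 7 ∈ H899.O7.Om := by
    intro c hc hcop
    have h1 : orderOf (c * s) = orderOf c * 7 := by
      rw [(hcomm c hc).orderOf_mul_eq_mul_orderOf_of_coprime (by rw [hs]; exact hcop), hs]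
    rw [← h1]
    by_contra h2
    exact not_order h2 (c * s) rfl
  have hno : ∀ r : ℕ, r.Prime → r ≠ 7 → r * 7 ∉ H899.O7.Om → ¬ r ∣ Nat.card (centralizer ({s} : Set T8)) := by
    intro r hr hr7 hrO hd
    haveI : Fact r.Prime := ⟨hr⟩
    obtain ⟨c, hc⟩ := exists_prime_orderOf_dvd_card' r hd
    have hc' : orderOf (c : T8) = r := by rw [Subgroup.orderOf_coe, hc]
    have h1 := hord c c.2 (by rw [hc']; exact (Nat.coprime_primes hr (by norm_num)).2 hr7)
    rw [hc'] at h1
    exact hrO h1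
  have h3 := hno 3 (by norm_num) (by norm_num) (by decide)
  have h5 := hno 5 (by norm_num) (by norm_num) (by decide)
  have h13 := hno 13 (by norm_num) (by norm_num) (by decide)
  have h8 : ¬ 2 ^ 3 ∣ Nat.card (centralizer ({s} : Set T8)) := by
    intro hd
    haveI : Fact (Nat.Prime 2) := ⟨Nat.prime_two⟩
    obtain ⟨E, hE⟩ := Sylow.exists_subgroup_card_pow_prime 2 hd
    have hE' : Nat.card (E.map (centralizer ({s} : Set T8)).subtype) = 8 := by
      rw [← Nat.card_congr (E.equivMapOfInjective _ (centralizer ({s} : Set T8)).subtype_injective).toEquiv, hE]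
      norm_num
    have h4 := le_four hs (E.map (centralizer ({s} : Set T8)).subtype) ?_ ?_
    · omega
    · rintro _ ⟨e, he, rfl⟩
      have h6 : orderOf (e : T8) ∣ 8 := by
        rw [Subgroup.orderOf_coe]
        have h7 := Subgroup.orderOf_dvd_natCard E he
        rwa [hE] at h7
      have h7 := hord (e : T8) e.2 (Nat.Coprime.coprime_dvd_left h6 (by norm_num))
      have h8 : orderOf (e : T8) ∣ 2 := by
        have h9 : ∀ n ∈ Nat.divisors 8, n * 7 ∈ H899.O7.Om → n ∣ 2 := by decide +kernel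
        exact h9 _ (Nat.mem_divisors.2 ⟨h6, by norm_num⟩) h7
      rw [← pow_two]
      exact orderOf_dvd_iff_pow_eq_one.1 h8
    · rintro _ ⟨e, he, rfl⟩
      exact hcomm e e.2
  have hT : Nat.card (centralizer ({s} : Set T8)) ∣ 2 ^ 12 * 7 * (3 ^ 12 * 5 ^ 2 * 13) := by
    have h1 := Subgroup.card_subgroup_dvd_card (centralizer ({s} : Set T8))
    rw [card_t8] at h1
    exact h1.trans (by norm_num)
  have hcop : Nat.Coprime (Nat.card (centralizer ({s} : Set T8))) (3 ^ 12 * 5 ^ 2 * 13) := by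
    have c3 := (Nat.Coprime.pow_left 12 ((Nat.Prime.coprime_iff_not_dvd (by norm_num)).2 h3)).symm
    have c5 := (Nat.Coprime.pow_left 2 ((Nat.Prime.coprime_iff_not_dvd (by norm_num)).2 h5)).symm
    have c13 := ((Nat.Prime.coprime_iff_not_dvd (by norm_num)).2 h13).symm
    exact (c3.mul_right c5).mul_right c13
  have h1 := hcop.dvd_of_dvd_mul_right hT
  obtain ⟨a, b, ha, hb, hab⟩ := (Nat.dvd_mul).1 h1
  obtain ⟨k, hk, rfl⟩ := (Nat.dvd_prime_pow Nat.prime_two).1 ha
  have hk2 : k ≤ 2 := by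
    by_contra hlt
    apply h8
    rw [← hab]
    exact (pow_dvd_pow 2 (by omega : 3 ≤ k)).mul_right b
  rw [← hab]
  exact Nat.mul_dvd_mul (pow_dvd_pow 2 hk2) hb

/-- **centralizers and normalizers of subgroups of order 7** -/
theorem cent_seven (P : Subgroup T8) (hP : Nat.card P = 7) :
    Nat.card (Subgroup.centralizer (P : Set T8)) ∣ 7 * 4 ∧ Nat.card (Subgroup.normalizer (P : Set T8)) ∣ 7 * 24 := by
  obtain ⟨s, hs, rfl⟩ := exists_gen (by norm_num) hP
  have h1 : Nat.card (Subgroup.centralizer ((zpowers s : Subgroup T8) : Set T8)) ∣ 28 := by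
    rw [centralizer_zpowers]
    exact card_cent_seven hs
  refine ⟨h1, ?_⟩
  have h2 := Cfsg.Agent.SmallSimple.SylowPrimeCount.card_normalizer_dvd (p := 7) (by norm_num) hP
    (Cfsg.Agent.SmallSimple.SylowPrimeCount.centralizer_le_normalizer' _)
  exact h2.trans ((Nat.mul_dvd_mul_left _ h1).trans (by norm_num))

theorem not_sq (r : ℕ) (hr : r = 7 ∨ r = 13) : ¬ r ^ 2 ∣ Nat.card T8 := by
  rw [card_t8]
  rcases hr with rfl | rfl <;> norm_num

theorem two_dvd_cent {s : T8} (hs : orderOf s = 7) : 2 ∣ Nat.card (centralizer ({s} : Set T8)) := by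
  obtain ⟨g, hg⟩ := exists_order (n := 14) (by decide)
  have h1 : orderOf (g ^ 2) = 7 := by rw [orderOf_pow, hg]; norm_num
  have h2 : orderOf (g ^ 7) = 2 := by rw [orderOf_pow, hg]; norm_num
  obtain ⟨a, ha⟩ := exists_conj_mem (by norm_num) (not_sq 7 (Or.inl rfl)) h1 hs
  -- `a s a⁻¹ ∈ ⟨g²⟩`
  have h3 : a⁻¹ * g ^ 7 * a ∈ centralizer ({s} : Set T8) := by
    rw [mem_centralizer_singleton_iff]
    have h4 : (g ^ 7) * (a * s * a⁻¹) = (a * s * a⁻¹) * g ^ 7 := by
      obtain ⟨j, hj⟩ := ha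
      have hj' : (g ^ 2) ^ j = a * s * a⁻¹ := hj
      rw [← hj']
      exact (((Commute.refl g).pow_pow 7 2).zpow_right j).eq
    calc a⁻¹ * g ^ 7 * a * s = a⁻¹ * (g ^ 7 * (a * s * a⁻¹)) * a := by group
      _ = a⁻¹ * ((a * s * a⁻¹) * g ^ 7) * a := by rw [h4]
      _ = s * (a⁻¹ * g ^ 7 * a) := by group
  have h5 : orderOf (a⁻¹ * g ^ 7 * a) = 2 := by
    have h6 := orderOf_conj a⁻¹ (g ^ 7)
    rw [inv_inv] at h6
    rw [h6, h2]
  have h7 := Subgroup.orderOf_dvd_natCard _ h3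
  rwa [h5] at h7

theorem card_conjPow_seven {s : T8} (hs : orderOf s = 7) : Nat.card (conjPow s) = 6 := by
  obtain ⟨n, hn, hn1⟩ := mod_normalizer (by norm_num) (not_sq 7 (Or.inl rfl)) hs
  have hC := card_cent_seven hs
  have h2 := two_dvd_cent hs
  have h7 : 7 ∣ Nat.card (centralizer ({s} : Set T8)) := by
    have h3 := Subgroup.orderOf_dvd_natCard (centralizer ({s} : Set T8))
      (mem_centralizer_singleton_iff.2 rfl : s ∈ centralizer ({s} : Set T8))
    rwa [hs] at h3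
  have hN := Cfsg.Agent.SmallSimple.SylowPrimeCount.card_normalizer_dvd (p := 7) (P := zpowers s) (by norm_num)
    (by rw [Nat.card_zpowers, hs]) (Cfsg.Agent.SmallSimple.SylowPrimeCount.centralizer_le_normalizer' _)
  rw [centralizer_zpowers, ← card_conjPow_mul] at hN
  have hc0 : 0 < Nat.card (centralizer ({s} : Set T8)) := Nat.card_pos
  have hk6 : Nat.card (conjPow s) ∣ 6 := Nat.dvd_of_mul_dvd_mul_right hc0 hN
  rw [card_t8] at hn
  obtain ⟨d, hd⟩ : 14 ∣ Nat.card (centralizer ({s} : Set T8)) :=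
    (Nat.Coprime.mul_dvd_of_dvd_of_dvd (by norm_num : Nat.Coprime 2 7) h2 h7)
  rw [hd] at hn hC
  have hd2 : d ∣ 2 := Nat.dvd_of_mul_dvd_mul_left (by norm_num : 0 < 14) hC
  generalize Nat.card (conjPow s) = k at hn hk6
  have hk : k ∈ Nat.divisors 6 := Nat.mem_divisors.2 ⟨hk6, by norm_num⟩
  have hk' : k = 1 ∨ k = 2 ∨ k = 3 ∨ k = 6 := by
    have : Nat.divisors 6 = {1, 2, 3, 6} := by decide +kernel
    rw [this] at hk
    simpa using hk
  have hd' : d = 1 ∨ d = 2 := (Nat.dvd_prime Nat.prime_two).1 hd2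
  rcases hk' with rfl | rfl | rfl | rfl <;> rcases hd' with rfl | rfl <;> first | rfl | (exfalso; (clear * - hn1 hn; omega))

theorem at_seven {s : T8} (hs : orderOf s = 7) : AT T8 s :=
  AT.of_one (by norm_num) (not_sq 7 (Or.inl rfl)) hs (card_conjPow_seven hs)

theorem card_conjPow_thirteen {s : T8} (hs : orderOf s = 13) : Nat.card (conjPow s) = 6 := by
  haveI h13p : Fact (Nat.Prime 13) := ⟨by norm_num⟩
  have hent := H503.El.entry_of_ex (T := T8) (N := 4952179814400) (p := 13) (M := 6) (by norm_num) card_t8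
    (by norm_num) (by norm_num) (by decide +kernel)
    (H134.OmegaThree.omega_plus_three (F := ZMod 3) (ZMod.card 3)) (zpowers s) (by rw [Nat.card_zpowers, hs])
  obtain ⟨n, hn, hn1⟩ := mod_normalizer (by norm_num) (not_sq 13 (Or.inr rfl)) hs
  simp only [centralizer_zpowers, ← card_conjPow_mul] at hent
  obtain ⟨h1, h2⟩ := hent
  have h7 : 13 ∣ Nat.card (centralizer ({s} : Set T8)) := by
    have h3 := Subgroup.orderOf_dvd_natCard (centralizer ({s} : Set T8))
      (mem_centralizer_singleton_iff.2 rfl : s ∈ centralizer ({s} : Set T8))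
    rwa [hs] at h3
  have h8 : Nat.card (centralizer ({s} : Set T8)) = 13 := Nat.dvd_antisymm (by simpa only [_root_.mul_one] using h1) h7
  rw [h8] at hn h2
  rw [card_t8] at hn
  have hk6 : Nat.card (conjPow s) ∣ 6 :=
    Nat.dvd_of_mul_dvd_mul_right (by norm_num : 0 < 13) (by rw [mul_comm 6 13]; exact h2)
  generalize Nat.card (conjPow s) = k at hn hk6
  have hk : k ∈ Nat.divisors 6 := Nat.mem_divisors.2 ⟨hk6, by norm_num⟩
  have hk' : k = 1 ∨ k = 2 ∨ k = 3 ∨ k = 6 := by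
    have : Nat.divisors 6 = {1, 2, 3, 6} := by decide +kernel
    rw [this] at hk
    simpa using hk
  rcases hk' with rfl | rfl | rfl | rfl <;> first | rfl | (exfalso; (clear * - hn1 hn; omega))

theorem at_thirteen {s : T8} (hs : orderOf s = 13) : AT T8 s := by
  refine AT.of_two (r := 13) (by norm_num) (not_sq 13 (Or.inr rfl)) (fun x hx => ?_) (fun g hg => ?_) not_sc_13 hs
  · rw [card_conjPow_thirteen hx]
  · have h1 : orderOf g ∈ H899.O7.Om := by
      by_contra h2
      exact not_order h2 g rfl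
    obtain ⟨m, hm, hd⟩ := h1
    have h3 : ∀ m ∈ H899.O7.PolyList.exps, ∀ n ∈ Nat.divisors m, 13 ∣ n → n = 13 := by decide +kernel
    refine h3 m hm _ (Nat.mem_divisors.2 ⟨hd, ?_⟩) hg
    have h4 : ∀ m ∈ H899.O7.PolyList.exps, m ≠ 0 := by decide +kernel
    exact h4 m hm

theorem card_out_t8 : Nat.card (Out T8) = 24 := by
  have hs : IsSimpleGroup T8 := simpleT8
  refine Cfsg.Agent.H934.OutB.card_out_of_aut (X := T8) ?_ ?_
  · intro hc
    have h1 : ∀ a b : T8, a * b = b * a := hc.is_comm.comm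
    have h2 : Fact (Nat.Prime 2) := ⟨Nat.prime_two⟩
    obtain ⟨x, hx⟩ := exists_prime_orderOf_dvd_card' (G := T8) 2 (by rw [card_t8]; norm_num)
    have hn : (Subgroup.zpowers x).Normal := ⟨fun n hn g => by
      rw [h1 g n, mul_inv_cancel_right]
      exact hn⟩
    rcases hn.eq_bot_or_eq_top with h3 | h3
    · rw [Subgroup.zpowers_eq_bot] at h3
      rw [h3, orderOf_one] at hx
      norm_num at hx
    · have h4 := Nat.card_zpowers x
      rw [h3, Subgroup.card_top, card_t8, hx] at h4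
      norm_num at h4
  · have h3 : Fact (Nat.Prime 3) := ⟨Nat.prime_three⟩
    have h1 := S0817.result (F := ZMod 3) 3 1 le_rfl (by rw [ZMod.card, pow_one]) 4 le_rfl
    rw [h1]
    norm_num only [_root_.ite_true, _root_.ite_false, _root_.mul_one]

theorem center_t8 : Subgroup.center T8 = ⊥ := by
  have hs : IsSimpleGroup T8 := simpleT8
  rcases (inferInstance : (Subgroup.center T8).Normal).eq_bot_or_eq_top with h | h
  · exact h
  · exfalso
    obtain ⟨x, hx⟩ := exists_order (n := 7) (by decide)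
    have h1 := card_cent_seven hx
    have h2 : centralizer ({x} : Set T8) = ⊤ := by
      rw [eq_top_iff]
      intro g _
      rw [mem_centralizer_singleton_iff]
      have h3 : g ∈ Subgroup.center T8 := by rw [h]; trivial
      exact (mem_center_iff.1 h3 x).symm
    rw [h2, Subgroup.card_top, card_t8] at h1
    norm_num at h1

theorem conj_inj : Function.Injective (MulAut.conj : T8 →* MulAut T8) := by
  rw [injective_iff_map_eq_one]
  intro g hg
  have h1 : g ∈ Subgroup.center T8 := by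
    rw [mem_center_iff]
    intro y
    have h2 : (MulAut.conj g : MulAut T8) y = y := by rw [hg]; rfl
    rw [MulAut.conj_apply, mul_inv_eq_iff_eq_mul] at h2
    exact h2.symm
  rwa [center_t8, Subgroup.mem_bot] at h1

theorem cos_t8 : Cos T8 := by
  obtain ⟨x, hx⟩ := exists_order (n := 7) (by decide)
  exact Cos.of_at (at_seven hx) (by norm_num) hx conj_inj (by rw [card_out_t8]; norm_num)

/-- **subgroups missing 7 or 13** -/
theorem outBadN_t8 (r : ℕ) (R : Subgroup T8) (hr : r = 7 ∨ r = 13) (h : ¬ r ∣ Nat.card R) : OutBadN T8 R := by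
  have key : ∀ x : T8, orderOf x = r → AT T8 x → OutBadN T8 R := fun x hx hat =>
    OutBadN.of_at hat fun g hg => not_mem_of_dvd h (v := r) (by rw [hx]) (MulAut.conj g) (by
      rw [MulAut.conj_apply]; exact hg)
  rcases hr with rfl | rfl
  · obtain ⟨x, hx⟩ := exists_order (n := 7) (by decide)
    exact key x hx (at_seven hx)
  · obtain ⟨x, hx⟩ := exists_order (n := 13) (by decide)
    exact key x hx (at_thirteen hx)

end O8

end Cfsg.Agent.H149.Der
end

-- part: H580/Der/Sp4_mg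
section

end

-- part: H602/Der/HSThree
section
set_option linter.all false
open scoped Cfsg.Agent.FastGrp

/-!
# S3502, the row HS: the proof (helper602)
-/

set_option autoImplicit false

namespace Cfsg.Agent.H602.Der.HS

open Subgroup
open Cfsg.Agent.OrdDiv Cfsg.Agent.H257.El Cfsg.Agent.H439.Der Cfsg.Agent.H604.Sax Cfsg.Agent.H938.Sax

universe u

variable {T : Type u} [Group T] [Finite T]

omit [Finite T] in
theorem not_cent_five {b : T} (hb : ¬ 125 ∣ Nat.card (centralizer ({b} : Set T))) {P : Subgroup T}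
    (hP : Nat.card P = 125) : ¬ ∀ g ∈ P, g * b = b * g := by
  intro h
  apply hb
  rw [← hP]
  exact card_dvd_of_le fun g hg => mem_centralizer_singleton_iff.2 (h g hg)

/-- `25 ∤ |R|` -/
theorem three_of_not_sq (tab : OrderTable.{u}) (known : Known.{u}) (h : Spor.IsoHS T) {R : Subgroup T} (hR : R ≠ ⊤)
    (h25 : ¬ 25 ∣ Nat.card R) : Three T R := by
  have D := dat h
  have hfive := five
  have key : ∀ p : ℕ, p.Prime → p ∣ 44352000 → p ≠ 5 → ¬ p ∣ Nat.card R → Three T R := by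
    intro p hp hd h5 hn
    have := Fact.mk hp
    obtain ⟨w, hw⟩ := exists_prime_orderOf_dvd_card' (G := T) p (by rw [D.card]; exact hd)
    exact D.not_sq h25 (noIm_of_prime hn hw) (by rw [hw]; exact h5)
  by_cases h2 : 2 ∣ Nat.card R; swap
  · exact key 2 (by norm_num) (by norm_num) (by norm_num) h2
  by_cases h3 : 3 ∣ Nat.card R; swap
  · exact key 3 (by norm_num) (by norm_num) (by norm_num) h3
  by_cases h7 : 7 ∣ Nat.card R; swap
  · exact key 7 (by norm_num) (by norm_num) (by norm_num) h7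
  by_cases h11 : 11 ∣ Nat.card R; swap
  · exact key 11 (by norm_num) (by norm_num) (by norm_num) h11
  by_cases h5 : 5 ∣ Nat.card R; swap
  · obtain ⟨a, ha, ha1, ha3⟩ := D.fiveA
    obtain ⟨b, hb, hb3, hb50⟩ := D.fiveB
    obtain ⟨c, hc, hc50⟩ := D.fiveC
    have ha125 := Nat.le_of_dvd Nat.card_pos ha1
    exact three_of_inv (noIm_of_prime h5 ha) (noIm_of_prime h5 hb) (noIm_of_prime h5 hc)
      (inv_ne_of_card fun h => ha3 (by rw [h]; exact hb3)) (inv_ne_of_card (by omega)) (inv_ne_of_card (by omega))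
  · have hm := full_hs tab known h hR (by
      intro p hp hd
      have h1 : p ∣ 2 ^ 9 * 3 ^ 2 * 5 ^ 3 * 7 * 11 := hd.trans (by norm_num)
      rw [hp.dvd_mul, hp.dvd_mul, hp.dvd_mul, hp.dvd_mul] at h1
      rcases h1 with (((h1 | h1) | h1) | h1) | h1
      · rw [(Nat.prime_dvd_prime_iff_eq hp (by norm_num)).1 (hp.dvd_of_dvd_pow h1)]; exact h2
      · rw [(Nat.prime_dvd_prime_iff_eq hp (by norm_num)).1 (hp.dvd_of_dvd_pow h1)]; exact h3
      · rw [(Nat.prime_dvd_prime_iff_eq hp (by norm_num)).1 (hp.dvd_of_dvd_pow h1)]; exact h5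
      · rw [(Nat.prime_dvd_prime_iff_eq hp (by norm_num)).1 h1]; exact h7
      · rw [(Nat.prime_dvd_prime_iff_eq hp (by norm_num)).1 h1]; exact h11)
    obtain ⟨w, hw⟩ := D.ten
    refine D.not_sq h25 (w := w) (noIm_of_order hw fun m hm' => ?_) (by rw [hw]; norm_num)
    intro h10
    exact NoNine.iso_m22 hm ⟨m, hm'⟩ (by rw [Subgroup.orderOf_mk, h10])

/-- `3 ∤ |R|` -/
theorem three_of_not_three (D : Dat T) {R : Subgroup T} (h3 : ¬ 3 ∣ Nat.card R) : Three T R := by
  have h3' : Fact (Nat.Prime 3) := ⟨by norm_num⟩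
  obtain ⟨x, hx⟩ := exists_prime_orderOf_dvd_card' (G := T) 3 (by rw [D.card]; norm_num)
  obtain ⟨y, hy⟩ := D.twelve
  obtain ⟨z, hz⟩ := D.fifteen
  exact three_of_inv (noIm_of_prime h3 hx) (noIm_of_dvd h3 (by rw [hy]; norm_num))
    (noIm_of_dvd h3 (by rw [hz]; norm_num)) (inv_ne_of_order (by rw [hx, hy]; norm_num))
    (inv_ne_of_order (by rw [hx, hz]; norm_num)) (inv_ne_of_order (by rw [hy, hz]; norm_num))

/-- `11 ∣ |R|`, `25 ∣ |R|` -/
theorem not_three_dvd (tab : OrderTable.{u}) (known : Known.{u}) (h : Spor.IsoHS T) {R : Subgroup T} (hR : R ≠ ⊤)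
    (h11 : 11 ∣ Nat.card R) (h25 : 25 ∣ Nat.card R) : ¬ 3 ∣ Nat.card R := by
  intro h3
  have hc := (dat h).card
  have S : H966.Der.Sit T 44352000 H966.Der.HS.l 11 R :=
    ⟨tab, known, hc, H966.Der.HS.valid_l, by norm_num, by norm_num, h11, hR⟩
  obtain ⟨O, hO, N, hT⟩ := S.exists_top
  have hNn := hT.normal
  have hd := S.dvd_simple hT (s := 3) (by norm_num) (H966.Der.HS.iso_11 h 3 (by norm_num) (by norm_num))
    (by decide +kernel) h3
  have hna := Cfsg.Agent.H257.El.Sit.not_comm_of_dvd hT (by norm_num) (by norm_num) hd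
  obtain ⟨g, hg, hr, hgc⟩ := S.exists_surv hT hna [3] (by simpa using hd)
  have h1 : ∀ g ∈ surv 44352000 H966.Der.HS.l 11 [3],
      ordN g = 660 ∨ ordN g = 7920 ∨ ordN g = 443520 := by decide +kernel
  have hO5 : ¬ 5 ∣ Nat.card O := hT.not_dvd_core (by norm_num) (by norm_num)
    (Cfsg.Agent.H257.El.Sit.noR (H966.Der.HS.iso_11 h 5 (by norm_num) (by norm_num))) fun b hb hd => by
      have h1 := hd.trans S.dvd_n
      have h2 : b ≤ 3 := by
        by_contra h3
        have := (pow_dvd_pow 5 (show 4 ≤ b by omega)).trans h1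
        norm_num at this
      interval_cases b <;> norm_num
  have hi := S.index_dvd hT (H966.Der.HS.iso_11 h) (by rw [hgc]; rcases h1 g hg with h2 | h2 | h2 <;> rw [h2] <;> norm_num)
  have hi1 : N.index = 1 := by
    rw [hgc] at hi
    rcases h1 g hg with h2 | h2 | h2 <;>
    · rw [h2] at hi
      norm_num at hi
      exact H966.Der.eq_one_of_mul_dvd (by norm_num) hi
  rw [← card_quot_mul O, ← Subgroup.card_mul_index N, hi1, mul_one] at h25
  have h3 : 5 ^ 2 ∣ Nat.card N :=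
    Nat.Coprime.dvd_of_dvd_mul_right (Nat.Coprime.pow_left 2 ((Nat.Prime.coprime_iff_not_dvd (by norm_num)).2 hO5))
      (by norm_num; exact h25)
  rw [hgc] at h3
  rcases h1 g hg with h2 | h2 | h2 <;> rw [h2] at h3 <;> norm_num at h3

/-- `7 ∣ |R|`, `25 ∣ |R|`, `11 ∤ |R|` : `U3(5)` or `U3(5).2` -/
theorem psu_case (tab : OrderTable.{u}) (known : Known.{u}) (h : Spor.IsoHS T) {R : Subgroup T} (hR : R ≠ ⊤)
    (h7 : 7 ∣ Nat.card R) (h25 : 25 ∣ Nat.card R) (h11 : ¬ 11 ∣ Nat.card R) :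
    (∀ m ∈ R, orderOf m ≠ 15) ∧ (Nat.card R = 252000 ∨ (Nat.card R = 126000 ∧ ∀ m ∈ R, orderOf m ≠ 20)) := by
  have D := dat h
  have hc := D.card
  have hfive := five
  have S : H966.Der.Sit T 44352000 H966.Der.HS.l 7 R :=
    ⟨tab, known, hc, H966.Der.HS.valid_l, by norm_num, by norm_num, h7, hR⟩
  obtain ⟨O, hO, N, hT⟩ := S.exists_top
  have hNn := hT.normal
  have hd := S.pow_dvd hT (s := 5) (k := 2) (by norm_num) (H966.Der.HS.iso_7 h 5 (by norm_num) (by norm_num)) (by decide +kernel) h25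
  have hna := Cfsg.Agent.H257.El.Sit.not_comm_of_dvd hT (s := 5) (by norm_num) (by norm_num)
    ((dvd_pow_self 5 (by norm_num)).trans hd)
  obtain ⟨g, hg, hr, hgc⟩ := S.exists_surv hT hna [25] (by simpa using hd)
  have hg' := H966.Der.mem_of_chkSurv (L := [.psu 3 5]) (by decide +kernel) hg
  rw [List.mem_singleton] at hg'
  subst hg'
  have hgc' : Nat.card N = 126000 := by rw [hgc]; decide +kernel
  have hi := S.index_dvd hT (H966.Der.HS.iso_7 h) (by rw [hgc']; norm_num)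
  rw [hgc'] at hi
  norm_num at hi
  have hi2 : N.index ∣ 2 := by
    have h1 : N.index * 3 ∣ 2 * 3 := hi
    exact Nat.dvd_of_mul_dvd_mul_right (by norm_num) h1
  -- the core
  have hO2 : Nat.card O ∣ 352 := S.core_dvd (N := N) (by rw [hgc'])
  have hcR : Nat.card R = 126000 * N.index * Nat.card O := by
    rw [← card_quot_mul O, ← Subgroup.card_mul_index N, hgc']
  have hO11 : ¬ 11 ∣ Nat.card O := fun h1 => h11 (h1.trans (by rw [hcR]; exact dvd_mul_left _ _))
  have hO32 : Nat.card O ∣ 2 ^ 5 := by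
    have h1 : Nat.Coprime (Nat.card O) 11 := ((Nat.Prime.coprime_iff_not_dvd (by norm_num)).2 hO11).symm
    refine h1.dvd_of_dvd_mul_right (n := 11) (hO2.trans (by norm_num))
  have hO1 : Nat.card O = 1 := by
    obtain ⟨k, hk, hkc⟩ := (Nat.dvd_prime_pow (by norm_num : Nat.Prime 2)).1 hO32
    have hnoM : ∀ p : ℕ, p.Prime → 7 ≠ p → ∀ z : R, orderOf z ≠ 7 * p :=
      fun p hp hrp => Cfsg.Agent.H257.El.Sit.noR (H966.Der.HS.iso_7 h p hp hrp)
    have h1 := H966.Der.card_core_mod hT hnoM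
    rw [hkc] at h1 ⊢
    have h2 : k = 0 ∨ k = 3 := by
      interval_cases k
      · exact Or.inl rfl
      · exact absurd h1 (by decide)
      · exact absurd h1 (by decide)
      · exact Or.inr rfl
      · exact absurd h1 (by decide)
      · exact absurd h1 (by decide)
    rcases h2 with rfl | rfl
    · norm_num
    exfalso
    -- a Sylow 5-subgroup of `R` acts on the involutions of `O`
    obtain ⟨P, hP⟩ := Sylow.exists_subgroup_card_pow_prime (G := R) 5 (n := 3)
      (by rw [hcR]; exact (Dvd.dvd.mul_right (Dvd.dvd.mul_right (by norm_num) _) _))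
    have hP' : Nat.card (P.map R.subtype) = 125 := by
      rw [Subgroup.card_map_of_injective R.subtype_injective, hP]; norm_num
    have h3 := D.cube.dvd_card hP' {x : T | x ∈ O.map R.subtype ∧ orderOf x = 2} (by
      rintro _ ⟨g, -, rfl⟩ _ ⟨⟨a, ha, rfl⟩, ha2⟩
      refine ⟨⟨g * a * g⁻¹, hO.conj_mem a ha g, by simp⟩, ?_⟩
      change orderOf ((g : T) * (a : T) * (g : T)⁻¹) = 2
      rw [H439.Der.orderOf_conj]
      exact ha2) (fun a ha => Or.inl ha.2)
    have h4 : Nat.card ({x : T | x ∈ O.map R.subtype ∧ orderOf x = 2} : Set T) < 8 := by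
      have h5 : Nat.card ({x : T | x ∈ O.map R.subtype ∧ orderOf x = 2} : Set T) ≤
          Nat.card (((O.map R.subtype : Subgroup T) : Set T) \ {1} : Set T) := by
        refine Nat.card_mono (Set.toFinite _) ?_
        rintro x ⟨hx, hx2⟩
        refine ⟨hx, ?_⟩
        rintro rfl
        rw [orderOf_one] at hx2
        norm_num at hx2
      rw [card_diff_one, Subgroup.card_map_of_injective R.subtype_injective, hkc] at h5
      omega
    have h5 : Nat.card ({x : T | x ∈ O.map R.subtype ∧ orderOf x = 2} : Set T) = 0 := by omega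
    have h2' : Fact (Nat.Prime 2) := ⟨by norm_num⟩
    obtain ⟨a, ha⟩ := exists_prime_orderOf_dvd_card' (G := O) 2 (by rw [hkc]; norm_num)
    rw [Finite.card_eq_zero_iff] at h5
    exact h5.elim ⟨((a : R) : T), ⟨(a : R), a.2, rfl⟩, by rw [Subgroup.orderOf_coe, Subgroup.orderOf_coe, ha]⟩
  have h15 : ∀ m ∈ R, orderOf m ≠ 15 := by
    intro m hm hmo
    obtain ⟨w, hw⟩ := H966.Der.Sit.exists_of_coprime hm (O := O) (N := N)
      (by rw [hO1]; exact Nat.coprime_one_right _) hNn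
      (by rw [hmo]; exact Nat.Coprime.coprime_dvd_right hi2 (by norm_num))
    exact H966.Der.no_15_u35 hr w (by rw [hw, hmo])
  refine ⟨h15, ?_⟩
  rcases (Nat.dvd_prime (by norm_num : Nat.Prime 2)).1 hi2 with h1 | h1
  · right
    refine ⟨by rw [hcR, h1, hO1], fun m hm hmo => ?_⟩
    obtain ⟨w, hw⟩ := H966.Der.Sit.exists_of_coprime hm (O := O) (N := N)
      (by rw [hO1]; exact Nat.coprime_one_right _) hNn
      (by rw [h1]; exact Nat.coprime_one_right _)
    obtain ⟨F, _, _, hF, ⟨e⟩⟩ := (show Real (.psu 3 5) N from hr)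
    have h2 := H966.Der.order_u35 hF (e w)
    rw [MulEquiv.orderOf_eq, hw, hmo] at h2
    norm_num at h2
  · left
    rw [hcR, h1, hO1]

/-- the number of a Sylow subgroup -/
theorem fac_eq {m k : ℕ} (hm : m ≠ 0) (h1 : 5 ^ k ∣ m) (h2 : ¬ 5 ^ (k + 1) ∣ m) : m.factorization 5 = k := by
  apply le_antisymm
  · by_contra hcon
    exact h2 (((by norm_num : Nat.Prime 5).pow_dvd_iff_le_factorization hm).2 (by omega))
  · exact ((by norm_num : Nat.Prime 5).pow_dvd_iff_le_factorization hm).1 h1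

theorem exists_sylow_cent {b : T} (hb : orderOf b = 5) (h1 : 125 ∣ Nat.card (centralizer ({b} : Set T)))
    (h4 : ¬ 5 ^ 4 ∣ Nat.card T) : ∃ A : Subgroup T, Nat.card A = 125 ∧ b ∈ A ∧ ∀ g ∈ A, g * b = b * g := by
  have hfive := five
  have hbC : b ∈ centralizer ({b} : Set T) := mem_centralizer_singleton_iff.2 rfl
  have h2 : IsPGroup 5 (zpowers (⟨b, hbC⟩ : centralizer ({b} : Set T))) :=
    IsPGroup.of_card (n := 1) (by rw [Nat.card_zpowers, Subgroup.orderOf_mk, hb, pow_one])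
  obtain ⟨S, hS⟩ := h2.exists_le_sylow
  refine ⟨(S : Subgroup _).map (centralizer ({b} : Set T)).subtype, ?_, ⟨⟨b, hbC⟩, hS (mem_zpowers _), rfl⟩, ?_⟩
  · rw [Subgroup.card_map_of_injective (Subgroup.subtype_injective _)]
    have h5 := S.card_eq_multiplicity
    rw [fac_eq (k := 3) Nat.card_pos.ne' (by norm_num; exact h1)
      fun h => h4 (h.trans (Subgroup.card_subgroup_dvd_card _))] at h5
    rw [show (125 : ℕ) = 5 ^ 3 by norm_num]
    exact h5
  · rintro _ ⟨g, -, rfl⟩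
    exact mem_centralizer_singleton_iff.1 g.2

/-- **All proper subgroups.** -/
theorem three_or (tab : OrderTable.{u}) (known : Known.{u}) (h : Spor.IsoHS T) {R : Subgroup T} (hR : R ≠ ⊤) :
    Three T R ∨ (Two T R ∧ Nat.card R = 252000) := by
  have D := dat h
  have hfive := five
  have h7' : Fact (Nat.Prime 7) := ⟨by norm_num⟩
  have h11' : Fact (Nat.Prime 11) := ⟨by norm_num⟩
  by_cases h25 : 25 ∣ Nat.card R; swap
  · exact Or.inl (three_of_not_sq tab known h hR h25)
  by_cases h11 : 11 ∣ Nat.card R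
  · exact Or.inl (three_of_not_three D (not_three_dvd tab known h hR h11 h25))
  obtain ⟨x, hx⟩ := exists_prime_orderOf_dvd_card' (G := T) 11 (by rw [D.card]; norm_num)
  have hxR := noIm_of_prime h11 hx
  by_cases h7 : 7 ∣ Nat.card R
  · obtain ⟨h1, h2⟩ := psu_case tab known h hR h7 h25 h11
    obtain ⟨y, hy⟩ := D.fifteen
    have hyR := noIm_of_order hy h1
    rcases h2 with h2 | ⟨h2, h3⟩
    · exact Or.inr ⟨two_of_inv hxR hyR (inv_ne_of_order (by rw [hx, hy]; norm_num)), h2⟩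
    · left
      obtain ⟨z, hz⟩ := D.twenty
      exact three_of_inv hxR hyR (noIm_of_order hz h3) (inv_ne_of_order (by rw [hx, hy]; norm_num))
        (inv_ne_of_order (by rw [hx, hz]; norm_num)) (inv_ne_of_order (by rw [hy, hz]; norm_num))
  · left
    obtain ⟨y, hy⟩ := exists_prime_orderOf_dvd_card' (G := T) 7 (by rw [D.card]; norm_num)
    have hyR := noIm_of_prime h7 hy
    have hRd : Nat.card R ∣ 576000 := by
      have h1 : Nat.card R ∣ 576000 * 77 := by
        have h2 := dvd_n (R := R) D.card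
        rwa [show (44352000 : ℕ) = 576000 * 77 by norm_num] at h2
      refine Nat.Coprime.dvd_of_dvd_mul_right ?_ h1
      rw [show (77 : ℕ) = 7 * 11 by norm_num]
      exact Nat.Coprime.mul_right ((Nat.Prime.coprime_iff_not_dvd (by norm_num)).2 h7).symm
        ((Nat.Prime.coprime_iff_not_dvd (by norm_num)).2 h11).symm
    by_cases h125 : 125 ∣ Nat.card R
    · obtain ⟨z, hz⟩ := D.fifteen
      exact three_of_inv hxR hyR (noIm_of_order hz (D.cube.no_fifteen tab known h125 hRd))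
        (inv_ne_of_order (by rw [hx, hy]; norm_num))
        (inv_ne_of_order (by rw [hx, hz]; norm_num)) (inv_ne_of_order (by rw [hy, hz]; norm_num))
    · -- the Sylow 5-subgroup has order 25
      obtain ⟨b, hb, hb3, hb50⟩ := D.fiveB
      obtain ⟨c, hc, hc50⟩ := D.fiveC
      have hbc : Nat.card (centralizer ({b} : Set T)) ≠ Nat.card (centralizer ({c} : Set T)) := by omega
      have key : NoIm R b ∨ NoIm R c := by
        by_contra hcon
        unfold NoIm at hcon
        push Not at hcon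
        obtain ⟨⟨α, hα⟩, ⟨β, hβ⟩⟩ := hcon
        -- Sylow subgroup of `R`
        obtain ⟨Q⟩ : Nonempty (Sylow 5 R) := inferInstance
        have hQ : Nat.card Q = 25 := by
          rw [Q.card_eq_multiplicity, fac_eq (k := 2) Nat.card_pos.ne' (by norm_num; exact h25) (by norm_num; exact h125)]
          norm_num
        set E : Subgroup T := (Q : Subgroup R).map R.subtype with hE
        have hEc : Nat.card E = 25 := by
          rw [hE, Subgroup.card_map_of_injective R.subtype_injective]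
          exact hQ
        have hEp : IsPGroup 5 E := IsPGroup.of_card (n := 2) (by rw [hEc]; norm_num)
        obtain ⟨P, hEP⟩ := hEp.exists_le_sylow
        have hPc : Nat.card P = 125 := by
          rw [P.card_eq_multiplicity, D.card, fac_eq (k := 3) (by norm_num) (by norm_num) (by norm_num)]
          norm_num
        -- conjugates in `E`
        have conj : ∀ y : T, y ∈ R → orderOf y = 5 → ∃ g : T, g * y * g⁻¹ ∈ E := by
          intro y hy hy5
          have h1 : IsPGroup 5 (zpowers (⟨y, hy⟩ : R)) :=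
            IsPGroup.of_card (n := 1) (by rw [Nat.card_zpowers, Subgroup.orderOf_mk, hy5, pow_one])
          obtain ⟨Q', hQ'⟩ := h1.exists_le_sylow
          obtain ⟨g, hg⟩ := MulAction.exists_smul_eq R Q' Q
          refine ⟨(g : T), ⟨g * ⟨y, hy⟩ * g⁻¹, ?_, rfl⟩⟩
          rw [← hg]
          exact ⟨⟨y, hy⟩, hQ' (mem_zpowers _), rfl⟩
        obtain ⟨g1, hg1⟩ := conj _ hα (by rw [orderOf_mulEquiv, hb])
        obtain ⟨g2, hg2⟩ := conj _ hβ (by rw [orderOf_mulEquiv, hc])
        apply hbc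
        have e1 : Nat.card (centralizer ({g1 * α b * g1⁻¹} : Set T)) = Nat.card (centralizer ({b} : Set T)) := by
          rw [card_cent_conj, card_cent_aut]
        have e2 : Nat.card (centralizer ({g2 * β c * g2⁻¹} : Set T)) = Nat.card (centralizer ({c} : Set T)) := by
          rw [card_cent_conj, card_cent_aut]
        rw [← e1, ← e2]
        refine PCube.card_cent_eq (p := 5) (P := P) (E := E) (by rw [hPc]; norm_num) (D.cube.na P hPc) hEP
          (by rw [hEc]; norm_num) hg1 hg2 ?_ ?_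
        · refine not_cent_five ?_ hPc
          rw [e1]
          intro h1
          obtain ⟨A', hA'c, hbA, hAb⟩ := exists_sylow_cent hb h1 (by rw [D.card]; norm_num)
          have h3' : Fact (Nat.Prime 3) := ⟨by norm_num⟩
          obtain ⟨t, ht⟩ := exists_prime_orderOf_dvd_card' (G := ↥(centralizer ({b} : Set T))) 3 hb3
          exact D.cube.cent A' hA'c b hbA (by rintro rfl; rw [orderOf_one] at hb; norm_num at hb) hAb (t : T)
            (by rw [Subgroup.orderOf_coe, ht]) (mem_centralizer_singleton_iff.1 t.2)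
        · refine not_cent_five ?_ hPc
          rw [e2]
          intro h1
          have := Nat.le_of_dvd Nat.card_pos h1
          omega
      rcases key with h1 | h1
      · exact three_of_inv hxR hyR h1 (inv_ne_of_order (by rw [hx, hy]; norm_num))
          (inv_ne_of_order (by rw [hx, hb]; norm_num)) (inv_ne_of_order (by rw [hy, hb]; norm_num))
      · exact three_of_inv hxR hyR h1 (inv_ne_of_order (by rw [hx, hy]; norm_num))
          (inv_ne_of_order (by rw [hx, hc]; norm_num)) (inv_ne_of_order (by rw [hy, hc]; norm_num))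

/-- **The row `HS`.** -/
theorem rowS_of (tab : OrderTable.{u}) (known : Known.{u}) {T : Type u} [Group T] (h : Spor.IsoHS T) : RowS T := by
  have : Finite T := Nat.finite_of_card_ne_zero (by rw [(dat h).card]; norm_num)
  refine RowS.of_coatoms fun M hM => ?_
  rcases three_or tab known h hM.1 with h1 | ⟨h1, h2⟩
  · exact Or.inl h1
  · refine Or.inr ⟨h1, fun R hR => ?_⟩
    have hRT : R ≠ ⊤ := fun h3 => hM.1 (top_le_iff.1 (h3 ▸ hR.le))
    rcases three_or tab known h hRT with h3 | ⟨-, h3⟩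
    · exact h3
    · exact absurd (Subgroup.eq_of_le_of_card_ge hR.le (by rw [h2, h3])) hR.ne

end Cfsg.Agent.H602.Der.HS
end
end
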